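import Groth.Agent.L22.Moving.Pt
import Groth.Agent.L16.ProjSpace.BaseChange
import Groth.Prelude.Def_P1
import Mathlib.Algebra.MvPolynomial.Equiv

/-!
Affine charts of the line over projective space.
-/

set_option autoImplicit false
set_option linter.style.haveILetI false
set_option backward.isDefEq.respectTransparency false

universe u

open AlgebraicGeometry CategoryTheory CategoryTheory.Limits MvPolynomial Groth.L16.ProjSpace

noncomputable section

namespace Groth.L22.Moving

/-- The coordinates `(T₀, T₁)` on the `j`-th chart of the line. -/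
abbrev lineCrd {B : Type u} [CommRing B] (b : B) (j : Fin (1 + 1)) : Fin (1 + 1) → B :=
  Function.update (fun _ => b) j 1

theorem isUnit_lineCrd {B : Type u} [CommRing B] (b : B) (j : Fin (1 + 1)) : IsUnit (lineCrd b j j) := by
  rw [lineCrd, Function.update_self]; exact isUnit_one

/-- The coefficient map from the integers. -/
abbrev σ0 (B : Type u) [CommRing B] : ULift.{u} ℤ →+* B := (algebraMap ℤ B).comp ULift.ringEquiv.toRingHom

theorem σ0_unique {B : Type u} [CommRing B] (f : ULift.{u} ℤ →+* B) : f = σ0 B :=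
  RingHom.ext fun z => by
    obtain ⟨z⟩ := z
    exact RingHom.congr_fun (RingHom.ext_int (f.comp ULift.ringEquiv.symm.toRingHom) (algebraMap ℤ B)) z

variable (R : Type u) [CommRing R]

instance chartVarUnique (j : Fin (1 + 1)) : Unique (ChartVar 1 j) :=
  ⟨⟨⟨1 - j, by fin_cases j <;> decide⟩⟩, fun a => by
    obtain ⟨a, ha⟩ := a
    refine Subtype.ext ?_
    show a = 1 - j
    fin_cases j <;> fin_cases a <;> simp at ha ⊢⟩

/-- The one variable of a chart of the line. -/
def lineEquiv (j : Fin (1 + 1)) : MvPolynomial (ChartVar 1 j) R →+* Polynomial R :=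
  (uniqueAlgEquiv R (ChartVar 1 j)).toRingEquiv.toRingHom

instance (j : Fin (1 + 1)) : IsIso (Spec.map (CommRingCat.ofHom (lineEquiv R j))) :=
  inferInstanceAs (IsIso (Scheme.Spec.map
    (uniqueAlgEquiv R (ChartVar 1 j)).toRingEquiv.toCommRingCatIso.hom.op))

/-- A chart of the line over an affine scheme. -/
def lineChart (j : Fin (1 + 1)) :
    Spec (CommRingCat.of (Polynomial R)) ⟶ CohB1.ProjSpaceOver 1 (Spec (CommRingCat.of R)) :=
  (Spec.map (CommRingCat.ofHom (lineEquiv R j)) ≫ Groth.L16.ProjSpace.chart 1 R j) ≫ (isoOver 1 R).hom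

instance (j : Fin (1 + 1)) : IsOpenImmersion (lineChart R j) := by
  unfold lineChart; infer_instance

theorem lineChart_toBase (j : Fin (1 + 1)) :
    lineChart R j ≫ CohB1.ProjSpaceOver.toBase 1 _ = Spec.map (CommRingCat.ofHom (Polynomial.C : R →+* _)) := by
  rw [lineChart, Category.assoc, isoOver_hom_toBase, Category.assoc, chart_toSpec, ← Spec.map_comp]
  congr 1
  refine CommRingCat.hom_ext (RingHom.ext fun a => ?_)
  exact (uniqueAlgEquiv R (ChartVar 1 j)).commutes a

theorem lineChart_fst (j : Fin (1 + 1)) :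
    lineChart R j ≫ pullback.fst _ _ = Groth.L18.PS.tuplePt (B := CommRingCat.of (Polynomial R))
      (σ0 (Polynomial R)) (lineCrd Polynomial.X j) j (isUnit_lineCrd _ _) := by
  rw [lineChart, Category.assoc,
    show (isoOver 1 R).hom ≫ pullback.fst _ _ = _ from (isPullback_over 1 (R := R)).isoPullback_hom_fst,
    Category.assoc, chart_map, ← Category.assoc, ← Spec.map_comp]
  have h : Groth.L16.ProjSpace.chart 1 (ULift.{u} ℤ) j = Groth.L18.PS.tuplePt
      (B := CommRingCat.of (MvPolynomial (ChartVar 1 j) (ULift.{u} ℤ))) C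
      (fun i => dehom 1 (ULift.{u} ℤ) j (X i)) j (by rw [dehom_X_self]; exact isUnit_one) :=
    chart_eq_tuplePt j
  rw [h, Groth.L18.PS.SpecMap_tuplePt]
  set ψ : MvPolynomial (ChartVar 1 j) (ULift.{u} ℤ) →+* Polynomial R :=
    (lineEquiv R j).comp (MvPolynomial.map (σ0 R)) with hψ
  have hσ : ψ.comp C = σ0 (Polynomial R) := σ0_unique _
  have hc : ∀ i, ψ (dehom 1 (ULift.{u} ℤ) j (X i)) = lineCrd Polynomial.X j i := fun i => by
    by_cases h : i = j
    · subst h; rw [dehom_X_self, map_one, lineCrd, Function.update_self]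
    · rw [dehom_X_ne 1 _ j ⟨i, h⟩, lineCrd, Function.update_of_ne h, hψ, RingHom.comp_apply, MvPolynomial.map_X]
      simp [lineEquiv]
  have key : ∀ (τ : ULift.{u} ℤ →+* Polynomial R) (b : Fin (1 + 1) → Polynomial R) (hb : IsUnit (b j)),
      τ = σ0 (Polynomial R) → b = lineCrd Polynomial.X j →
      Groth.L18.PS.tuplePt (B := CommRingCat.of (Polynomial R)) τ b j hb =
        Groth.L18.PS.tuplePt (B := CommRingCat.of (Polynomial R)) (σ0 (Polynomial R)) (lineCrd Polynomial.X j) j
          (isUnit_lineCrd _ _) := by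
    rintro τ b hb rfl rfl; rfl
  exact key _ _ _ hσ (funext hc)

variable {R}
variable {K : Type u} [Field K] {N : ℕ}

variable (K) in
/-- The chart ring of projective space. -/
abbrev CR (k : Fin (N + 1)) : Type u := MvPolynomial (ChartVar N k) K

variable (K) in
/-- The chart `D₊(X k) × D₊(T j)`. -/
def χ (k : Fin (N + 1)) (j : Fin (1 + 1)) :
    Spec (CommRingCat.of (Polynomial (CR K k))) ⟶ CohB1.ProjSpaceOver 1 (CohB1.ProjSpace N K) :=
  lineChart (CR K k) j ≫ overMap 1 (chart N K k)

instance (k : Fin (N + 1)) : IsOpenImmersion (overMap 1 (chart N K k)) :=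
  MorphismProperty.of_isPullback (P := @IsOpenImmersion) (isPullback_overMap 1 (chart N K k)).flip
    (inferInstance : IsOpenImmersion (chart N K k))

instance (k : Fin (N + 1)) (j : Fin (1 + 1)) : IsOpenImmersion (χ K k j) := by
  unfold χ; infer_instance

theorem χ_toBase (k : Fin (N + 1)) (j : Fin (1 + 1)) :
    χ K k j ≫ CohB1.ProjSpaceOver.toBase 1 _ =
      Spec.map (CommRingCat.ofHom (Polynomial.C : CR K k →+* _)) ≫ chart N K k := by
  rw [χ, Category.assoc, (isPullback_overMap 1 (chart N K k)).w, ← Category.assoc, lineChart_toBase]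

theorem χ_fst (k : Fin (N + 1)) (j : Fin (1 + 1)) :
    χ K k j ≫ pullback.fst _ _ = Groth.L18.PS.tuplePt (B := CommRingCat.of (Polynomial (CR K k)))
      (σ0 _) (lineCrd Polynomial.X j) j (isUnit_lineCrd _ _) := by
  rw [χ, Category.assoc, show overMap 1 (chart N K k) ≫ pullback.fst _ _ = _ from
    (pullback.lift_fst _ _ _).trans (Category.comp_id _)]
  exact lineChart_fst (CR K k) j

theorem exists_χ (q : ↥(CohB1.ProjSpaceOver 1 (CohB1.ProjSpace N K))) : ∃ k j, q ∈ Set.range (χ K k j) := by
  obtain ⟨k, hk⟩ := exists_mem_basicOpen_X N K (CohB1.ProjSpaceOver.toBase 1 _ q)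
  rw [← opensRange_chart] at hk
  obtain ⟨p, hp⟩ := hk
  obtain ⟨z, hz, -⟩ := Scheme.Pullback.exists_preimage_pullback (f := CohB1.ProjSpaceOver.toBase 1 _)
    (g := chart N K k) q p hp.symm
  obtain ⟨y, rfl⟩ : ∃ y, overMap 1 (chart N K k) y = q :=
    ⟨(isPullback_overMap 1 (chart N K k)).isoPullback.inv z, by
      rw [← Scheme.Hom.comp_apply, IsPullback.isoPullback_inv_fst]; exact hz⟩
  obtain ⟨j, hj⟩ := exists_mem_basicOpen_X 1 (CR K k) ((isoOver 1 (CR K k)).inv y)
  rw [← opensRange_chart] at hj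
  obtain ⟨w, hw⟩ := hj
  let e := Spec.map (CommRingCat.ofHom (lineEquiv (CR K k) j))
  refine ⟨k, j, inv e w, ?_⟩
  simp only [χ, lineChart, Scheme.Hom.comp_apply]
  rw [show e (inv e w) = w from by rw [← Scheme.Hom.comp_apply, IsIso.inv_hom_id]; rfl, hw]
  refine congrArg _ ?_
  rw [← Scheme.Hom.comp_apply, Iso.inv_hom_id]
  rfl

end Groth.L22.Moving
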