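import Groth.Agent.L22.Moving.Generic
import Mathlib.RingTheory.Valuation.ValuationSubring
import Mathlib.RingTheory.Valuation.LocalSubring

/-!
Specializations of a pencil of translates, through valuation rings.
-/

set_option autoImplicit false
set_option linter.style.haveILetI false
set_option backward.isDefEq.respectTransparency false

universe u

open AlgebraicGeometry CategoryTheory MvPolynomial Groth.L16.ProjSpace

noncomputable section

namespace Groth.L22.Moving

variable {K : Type u} [Field K] {N : ℕ}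

theorem map_lin {Ω Ω' : Type u} [CommRing Ω] [Algebra K Ω] [CommRing Ω'] [Algebra K Ω'] (φ : Ω →ₐ[K] Ω')
    (g : Fin (N + 1) → Fin (N + 1) → K) (ε : K) (b : Ω) (y : Fin (N + 1) → Ω) (i : Fin (N + 1)) :
    φ (lin g ε b y i) = lin g ε (φ b) (fun j => φ (y j)) i := by
  simp [lin, map_sum]

theorem lin_smul {Ω : Type u} [CommRing Ω] [Algebra K Ω] (g : Fin (N + 1) → Fin (N + 1) → K) (ε : K) (b a : Ω)
    (y : Fin (N + 1) → Ω) (i : Fin (N + 1)) : lin g ε b (fun j => a * y j) i = a * lin g ε b y i := by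
  simp only [lin, mul_add, Finset.mul_sum]
  refine congrArg₂ (· + ·) (by ring) (Finset.sum_congr rfl fun j _ => by ring)

/-- A valuation ring dominating a prime. -/
theorem exists_dominating {R : Type u} [CommRing R] {L : Type u} [Field L] (f : R →+* L) (p : Ideal R) [p.IsPrime]
    (h : RingHom.ker f ≤ p) :
    ∃ (V : ValuationSubring L) (σ : R →+* V), (∀ a, (σ a : L) = f a) ∧
      ∀ a, σ a ∈ IsLocalRing.maximalIdeal V ↔ a ∈ p := by
  have hu : ∀ s : p.primeCompl, IsUnit (f s) := fun s => isUnit_iff_ne_zero.2 fun hs => s.2 (h hs)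
  obtain ⟨V, hV, hloc⟩ := IsLocalRing.exists_factor_valuationRing
    (IsLocalization.lift (S := Localization.AtPrime p) hu)
  let τ : Localization.AtPrime p →+* V.toSubring := (IsLocalization.lift hu).codRestrict V.toSubring hV
  haveI : IsLocalHom τ := hloc
  refine ⟨V, τ.comp (algebraMap R (Localization.AtPrime p)), fun a => IsLocalization.lift_eq hu a, fun a => ?_⟩
  rw [IsLocalRing.mem_maximalIdeal, mem_nonunits_iff]
  change ¬ IsUnit (τ (algebraMap R (Localization.AtPrime p) a)) ↔ _
  rw [isUnit_map_iff, IsLocalization.AtPrime.isUnit_to_map_iff _ p]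
  exact not_not

variable {L : Type u} [Field L] [Algebra K L] (g : Fin (N + 1) → Fin (N + 1) → K)

/-- The coordinate on the `j`-th chart of the line. -/
def tVal (j : Fin (1 + 1)) (T : L) : L := if j = 0 then T else T⁻¹

/-- The generic point of the family on a chart. -/
def evC (T : L) (Y : Fin (N + 1) → L) (k : Fin (N + 1)) (j : Fin (1 + 1)) :
    Polynomial (MvPolynomial (ChartVar N k) K) →ₐ[K] L :=
  { Polynomial.eval₂RingHom (crdMap (K := K) k (lin g 1 T Y)).toRingHom (tVal j T) with
    commutes' := fun a => by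
      show Polynomial.eval₂ _ _ (algebraMap K (Polynomial (MvPolynomial (ChartVar N k) K)) a) = _
      rw [IsScalarTower.algebraMap_apply K (MvPolynomial (ChartVar N k) K), Polynomial.algebraMap_eq,
        Polynomial.eval₂_C]
      exact (crdMap (K := K) k (lin g 1 T Y)).commutes a }

theorem evC_C (T : L) (Y : Fin (N + 1) → L) (k : Fin (N + 1)) (j : Fin (1 + 1)) (r : MvPolynomial (ChartVar N k) K) :
    evC g T Y k j (Polynomial.C r) = crdMap (K := K) k (lin g 1 T Y) r :=
  Polynomial.eval₂_C _ _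

theorem evC_X (T : L) (Y : Fin (N + 1) → L) (k : Fin (N + 1)) (j : Fin (1 + 1)) :
    evC g T Y k j Polynomial.X = tVal j T :=
  Polynomial.eval₂_X _ _

/-- Specialisations of the generic point have coordinates `γ_b y` over some field. -/
theorem exists_data (T : L) (hT : T ≠ 0) (Y : Fin (N + 1) → L) (hY : Y ≠ 0) (k : Fin (N + 1))
    (hk : lin g 1 T Y k ≠ 0) (j : Fin (1 + 1))
    (hker : ∀ (Ω : Type u) [Field Ω] [Algebra K Ω] (i : Fin (N + 1)) (y : Fin (N + 1) → Ω) (hy : y ≠ 0),
      y i = 1 → pt (K := K) Y hY ⤳ pt y hy → (∀ b, lin g 1 b y ≠ 0) ∧ lin g 0 1 y ≠ 0)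
    (p : PrimeSpectrum (Polynomial (MvPolynomial (ChartVar N k) K)))
    (hp : RingHom.ker (evC g T Y k j).toRingHom ≤ p.asIdeal) :
    ∃ (Ω : Type u) (_ : Field Ω) (_ : Algebra K Ω) (φ : Polynomial (MvPolynomial (ChartVar N k) K) →ₐ[K] Ω)
      (i : Fin (N + 1)) (y : Fin (N + 1) → Ω) (hy : y ≠ 0) (w : Fin (N + 1) → Ω),
      RingHom.ker φ.toRingHom = p.asIdeal ∧ y i = 1 ∧ pt (K := K) Y hY ⤳ pt y hy ∧ w k ≠ 0 ∧
      (∀ l, φ (Polynomial.C (dehom N K k (X l))) = w l / w k) ∧
      (j = 0 → w = lin g 1 (φ Polynomial.X) y) ∧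
      (j ≠ 0 → ∀ l, w l = φ Polynomial.X * y l + lin g 0 1 y l) := by
  classical
  let R := Polynomial (MvPolynomial (ChartVar N k) K)
  haveI := p.isPrime
  obtain ⟨V, σ, hσL, hσm⟩ := exists_dominating (evC g T Y k j).toRingHom p.asIdeal hp
  replace hσL : ∀ a, ((σ a : V) : L) = evC g T Y k j a := hσL
  letI : Algebra K V := (σ.comp (algebraMap K R)).toAlgebra
  let ι : V →ₐ[K] L :=
    { V.subtype with
      commutes' := fun a => by
        show ((σ (algebraMap K R a) : V) : L) = _
        rw [hσL, AlgHom.commutes] }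
  let σA : R →ₐ[K] V := { σ with commutes' := fun a => rfl }
  let Ω := IsLocalRing.ResidueField V
  let r : V →ₐ[K] Ω := IsScalarTower.toAlgHom K V Ω
  have hr : ∀ a : V, r a = IsLocalRing.residue V a := fun a => rfl
  let φ : R →ₐ[K] Ω := r.comp σA
  have hφker : RingHom.ker φ.toRingHom = p.asIdeal := by
    ext a
    show IsLocalRing.residue V (σ a) = 0 ↔ _
    rw [IsLocalRing.residue_eq_zero_iff, hσm]
  obtain ⟨i, -, hi⟩ := Finset.exists_max_image Finset.univ (fun l => V.valuation (Y l)) Finset.univ_nonempty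
  have hYi : Y i ≠ 0 := fun h0 => hY (funext fun l => by
    have := hi l (Finset.mem_univ l)
    rw [h0, map_zero] at this
    exact (map_eq_zero _).1 (le_antisymm this zero_le'))
  have hmem : ∀ l, (Y i)⁻¹ * Y l ∈ V := fun l => by
    rw [← V.valuation_le_one_iff, map_mul, map_inv₀]
    exact (mul_le_mul' le_rfl (hi l (Finset.mem_univ l))).trans_eq
      (inv_mul_cancel₀ ((Valuation.ne_zero_iff _).2 hYi))
  let Yt : Fin (N + 1) → V := fun l => ⟨(Y i)⁻¹ * Y l, hmem l⟩
  let y : Fin (N + 1) → Ω := fun l => r (Yt l)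
  have hyi : y i = 1 := by
    have : Yt i = 1 := Subtype.ext (inv_mul_cancel₀ hYi)
    simp only [y, this, map_one]
  have hy : y ≠ 0 := fun h0 => one_ne_zero (hyi.symm.trans (congrFun h0 i))
  have hιy : (fun l => ι (Yt l)) ≠ 0 := fun h0 => by
    have h1 : ι (Yt i) = 0 := congrFun h0 i
    have h2 : ι (Yt i) = 1 := inv_mul_cancel₀ hYi
    exact one_ne_zero (h2.symm.trans h1)
  have hsp : pt (K := K) Y hY ⤳ pt y hy := by
    rw [← pt_scale (K := K) hY hιy (inv_ne_zero hYi) (fun l => rfl)]
    exact pt_specializes ι r Subtype.val_injective Yt hιy hy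
  obtain ⟨hb, h01⟩ := hker Ω i y hy hyi hsp
  let s : V := σ Polynomial.X
  have hs : (s : L) = tVal j T := (hσL _).trans (evC_X g T Y k j)
  let W : Fin (N + 1) → V := fun l => if j = 0 then lin g 1 s Yt l else s * Yt l + lin g 0 1 Yt l
  have hWL : ∃ c : L, ∀ l, (W l : L) = c * lin g 1 T Y l := by
    by_cases h : j = 0
    · refine ⟨(Y i)⁻¹, fun l => ?_⟩
      simp only [W, if_pos h]
      show ι (lin g 1 s Yt l) = _
      rw [map_lin, show ι s = T from hs.trans (if_pos h)]
      exact lin_smul g 1 T (Y i)⁻¹ Y l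
    · refine ⟨T⁻¹ * (Y i)⁻¹, fun l => ?_⟩
      simp only [W, if_neg h]
      show ι (s * Yt l + lin g 0 1 Yt l) = _
      rw [map_add, map_mul, map_lin, map_one, show ι s = T⁻¹ from hs.trans (if_neg h),
        show (fun j => ι (Yt j)) = fun j => (Y i)⁻¹ * Y j from rfl, lin_smul]
      show T⁻¹ * ((Y i)⁻¹ * Y l) + _ = _
      simp only [lin, map_zero, zero_mul, zero_add, one_mul, map_one]
      field_simp
  obtain ⟨c, hc⟩ := hWL
  let w : Fin (N + 1) → Ω := fun l => r (W l)
  have hw0 : j = 0 → w = lin g 1 (φ Polynomial.X) y := fun h => funext fun l => by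
    simp only [w, W, if_pos h]
    exact map_lin r g 1 s Yt l
  have hw1 : j ≠ 0 → ∀ l, w l = φ Polynomial.X * y l + lin g 0 1 y l := fun h l => by
    simp only [w, W, if_neg h]
    rw [map_add, map_mul, map_lin, map_one]
    rfl
  have hrat : ∀ l, (σ (Polynomial.C (dehom N K k (X l))) : V) * W k = W l := fun l => by
    refine Subtype.ext ?_
    show ((σ _ : V) : L) * (W k : L) = (W l : L)
    rw [hσL, evC_C, hc, hc, crdMap_dehom_X k _ hk]
    field_simp
  have hwrat : ∀ l, φ (Polynomial.C (dehom N K k (X l))) * w k = w l := fun l => by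
    show r _ * r _ = r _
    rw [← map_mul]
    exact congrArg r (hrat l)
  have hwne : w ≠ 0 := by
    by_cases h : j = 0
    · rw [hw0 h]; exact hb _
    · by_cases hσ : φ Polynomial.X = 0
      · intro h0
        refine h01 (funext fun l => ?_)
        have := congrFun h0 l
        rwa [hw1 h, hσ, zero_mul, zero_add] at this
      · intro h0
        refine hb (φ Polynomial.X)⁻¹ (funext fun l => ?_)
        have h2 := congrFun h0 l
        rw [hw1 h] at h2
        simp only [lin, map_one, map_zero, zero_mul, one_mul, zero_add, Pi.zero_apply] at h2 ⊢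
        have h3 := congrArg (fun x => (φ Polynomial.X)⁻¹ * x) h2
        simpa [mul_add, inv_mul_cancel_left₀ hσ] using h3
  have hwk : w k ≠ 0 := fun h0 => hwne (funext fun l => by rw [← hwrat l, h0, mul_zero]; rfl)
  exact ⟨Ω, inferInstance, inferInstance, φ, i, y, hy, w, hφker, hyi, hsp, hwk,
    fun l => (eq_div_iff hwk).2 (hwrat l), hw0, hw1⟩

end Groth.L22.Moving
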