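import Groth.Agent.L22.Moving.Chart
import Groth.Agent.L22.Moving.Special
import Groth.Agent.L22.FibreDim
import Groth.Agent.L22.Cyc.P1Rat
import Groth.Agent.L22.IntMult.P1Value
import Groth.Agent.S1919

/-!
Points of the charts of the line over projective space: dimensions, sections, images.
-/

set_option autoImplicit false
set_option linter.style.haveILetI false
set_option backward.isDefEq.respectTransparency false

universe u

open AlgebraicGeometry CategoryTheory CategoryTheory.Limits MvPolynomial Groth.L16.ProjSpace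

noncomputable section

namespace Groth.L22.Moving

variable {K : Type u} [Field K] {N : ℕ}

/-- The prime of a map to a field, as a point. -/
abbrev kerPt {R : Type u} [CommRing R] [Algebra K R] {Ω : Type u} [Field Ω] [Algebra K Ω] (φ : R →ₐ[K] Ω) :
    PrimeSpectrum R := ⟨RingHom.ker φ.toRingHom, RingHom.ker_isPrime _⟩

variable {δP : ↥(CohB1.ProjSpace N K) → ℤ} {δ' : ↥(CohB1.ProjSpaceOver 1 (CohB1.ProjSpace N K)) → ℤ}
  (hδP : Cyc.DeltaCompat (CohB1.ProjSpace.toSpec N K) δP (fun _ => 0))
  (hδ' : Cyc.DeltaCompat (CohB1.ProjSpaceOver.toBase 1 (CohB1.ProjSpace N K)) δ' δP)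

/-- A chart map from the values of the coordinates and of the parameter. -/
theorem range_subset {Ω : Type u} [Field Ω] [Algebra K Ω] {k : Fin (N + 1)}
    (φ : Polynomial (MvPolynomial (ChartVar N k) K) →ₐ[K] Ω) :
    Set.range φ ⊆ IntermediateField.adjoin K
      (Set.range (fun l : ChartVar N k => φ (Polynomial.C (X l))) ∪ {φ Polynomial.X}) := by
  rintro _ ⟨f, rfl⟩
  induction f using Polynomial.induction_on' with
  | add p q hp hq => rw [map_add]; exact add_mem hp hq
  | monomial n a =>
    rw [← Polynomial.C_mul_X_pow_eq_monomial, map_mul, map_pow]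
    have hX : φ Polynomial.X ∈ IntermediateField.adjoin K
        (Set.range (fun l : ChartVar N k => φ (Polynomial.C (X l))) ∪ {φ Polynomial.X}) :=
      IntermediateField.subset_adjoin K _ (Set.mem_union_right _ rfl)
    refine mul_mem ?_ (pow_mem hX n)
    let θ : MvPolynomial (ChartVar N k) K →ₐ[K] Ω :=
      φ.comp (IsScalarTower.toAlgHom K (MvPolynomial (ChartVar N k) K) (Polynomial (MvPolynomial (ChartVar N k) K)))
    exact IntermediateField.adjoin.mono K (Set.range fun l : ChartVar N k => φ (Polynomial.C (X l)))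
      (Set.range (fun l : ChartVar N k => φ (Polynomial.C (X l))) ∪ {φ Polynomial.X}) Set.subset_union_left
      (range_subset_adjoin θ ⟨a, rfl⟩)

include hδP hδ' in
theorem delta_χ {Ω : Type u} [Field Ω] [Algebra K Ω] (k : Fin (N + 1)) (j : Fin (1 + 1))
    (φ : Polynomial (MvPolynomial (ChartVar N k) K) →ₐ[K] Ω)
    (p : PrimeSpectrum (Polynomial (MvPolynomial (ChartVar N k) K))) (hp : RingHom.ker φ.toRingHom = p.asIdeal) :
    ∃ d : ℕ, δ' (χ K k j p) = d ∧ rk K (Set.range φ) = d := by
  obtain ⟨d, hd, hrk⟩ := dim_quot_ker φ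
  refine ⟨d, ?_, hrk⟩
  have h1 := Groth.L22.Bundle.deltaCompat_comp (χ K k j) _
    (Groth.L22.IntMult.P1F.deltaCompat_trans _ _ hδ' hδP)
  rw [← Category.assoc, χ_toBase, Category.assoc, chart_toSpec, ← Spec.map_comp] at h1
  haveI : LocallyOfFiniteType (Spec.map (CommRingCat.ofHom (C : K →+* MvPolynomial (ChartVar N k) K) ≫
      CommRingCat.ofHom (Polynomial.C : MvPolynomial (ChartVar N k) K →+* _))) := by
    rw [HasRingHomProperty.Spec_iff (P := @LocallyOfFiniteType)]
    exact RingHom.finiteType_algebraMap.2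
      (inferInstance : Algebra.FiniteType K (Polynomial (MvPolynomial (ChartVar N k) K)))
  obtain ⟨n, hn, hδn⟩ := Groth.Agent.S1919.delta_eq_dim K _ _ _ h1 p
  refine hδn.trans ?_
  have h2 := (dim_closure_prime p).trans (((ringKrullDim_eq_of_ringEquiv (Ideal.quotEquivOfEq hp)).symm).trans hd)
  have h3 : (n : WithBot ℕ∞) = (d : WithBot ℕ∞) := hn.symm.trans h2
  exact_mod_cast h3

theorem toBase_χ (k : Fin (N + 1)) (j : Fin (1 + 1)) (p : PrimeSpectrum (Polynomial (MvPolynomial (ChartVar N k) K))) :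
    CohB1.ProjSpaceOver.toBase 1 _ (χ K k j p) =
      chart N K k (PrimeSpectrum.comap (Polynomial.C : MvPolynomial (ChartVar N k) K →+* _) p) := by
  show (χ K k j ≫ CohB1.ProjSpaceOver.toBase 1 _) p = _
  rw [χ_toBase]
  rfl

theorem toBase_χ_pt {Ω : Type u} [Field Ω] [Algebra K Ω] (k : Fin (N + 1)) (j : Fin (1 + 1))
    (φ : Polynomial (MvPolynomial (ChartVar N k) K) →ₐ[K] Ω) (w : Fin (N + 1) → Ω) (hwk : w k ≠ 0)
    (hφ : ∀ l, φ (Polynomial.C (dehom N K k (X l))) = w l / w k)
    (p : PrimeSpectrum (Polynomial (MvPolynomial (ChartVar N k) K))) (hp : RingHom.ker φ.toRingHom = p.asIdeal) :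
    CohB1.ProjSpaceOver.toBase 1 _ (χ K k j p) = pt w (fun h => hwk (congrFun h k)) := by
  rw [toBase_χ, pt_eq_chart k w _ hwk]
  refine congrArg (chart N K k) (PrimeSpectrum.ext ?_)
  ext a
  show Polynomial.C a ∈ p.asIdeal ↔ crdMap (K := K) k w a = 0
  rw [← hp]
  have e : φ.comp (IsScalarTower.toAlgHom K (MvPolynomial (ChartVar N k) K)
      (Polynomial (MvPolynomial (ChartVar N k) K))) = crdMap (K := K) k w := algHom_ext fun l => by
    have h := hφ l.1
    rw [dehom_X_ne] at h
    simpa [crdMap] using h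
  rw [← e]
  rfl

theorem sect_chart (k : Fin (N + 1)) (j : Fin (1 + 1)) :
    chart N K k ≫ P1.sect (CohB1.ProjSpace N K) j =
      Spec.map (CommRingCat.ofHom (Polynomial.evalRingHom (0 : MvPolynomial (ChartVar N k) K))) ≫ χ K k j := by
  apply pullback.hom_ext
  · rw [Category.assoc, Category.assoc, χ_fst, Groth.L18.PS.SpecMap_tuplePt, P1.sect, pullback.lift_fst,
      ← Category.assoc, specULiftZIsTerminal.hom_ext (chart N K k ≫ specULiftZIsTerminal.from _)
        (Spec.map (CommRingCat.ofHom (σ0 (MvPolynomial (ChartVar N k) K))))]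
    have h : P1.point.{u} j = Groth.L18.PS.tuplePt (B := CommRingCat.of (ULift.{u} ℤ)) (RingHom.id _)
        (Pi.single j 1) j (by rw [Pi.single_eq_same]; exact isUnit_one) := by
      rw [P1.point, Groth.L18.PS.tuplePt]
      congr 2
    rw [h, Groth.L18.PS.SpecMap_tuplePt]
    have key : ∀ (τ : ULift.{u} ℤ →+* MvPolynomial (ChartVar N k) K) (b : Fin (1 + 1) → MvPolynomial (ChartVar N k) K)
        (hb : IsUnit (b j)), τ = σ0 _ → b = lineCrd (0 : MvPolynomial (ChartVar N k) K) j →
        Groth.L18.PS.tuplePt (B := CommRingCat.of (MvPolynomial (ChartVar N k) K)) τ b j hb =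
          Groth.L18.PS.tuplePt (B := CommRingCat.of (MvPolynomial (ChartVar N k) K)) (σ0 _)
            (lineCrd (0 : MvPolynomial (ChartVar N k) K) j) j (isUnit_lineCrd _ _) := by
      rintro τ b hb rfl rfl; rfl
    refine (key _ _ _ (σ0_unique _) (funext fun i => ?_)).trans (key _ _ _ (σ0_unique _) (funext fun i => ?_)).symm
    · by_cases hi : i = j
      · subst hi; simp [lineCrd]
      · simp [lineCrd, hi]
    · by_cases hi : i = j
      · subst hi; simp [lineCrd]
      · simp [lineCrd, hi]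
  · show _ ≫ CohB1.ProjSpaceOver.toBase 1 _ = _ ≫ CohB1.ProjSpaceOver.toBase 1 _
    rw [Category.assoc, Category.assoc, χ_toBase, Groth.L07.BlowLib.sect_toBase, Category.comp_id,
      ← Category.assoc, ← Spec.map_comp]
    conv_lhs => rw [← Category.id_comp (chart N K k), ← Spec.map_id]
    congr 2
    exact CommRingCat.hom_ext (RingHom.ext fun a => (Polynomial.eval_C).symm)

theorem sect_chart_apply (k : Fin (N + 1)) (j : Fin (1 + 1)) (p : PrimeSpectrum (MvPolynomial (ChartVar N k) K)) :
    P1.sect (CohB1.ProjSpace N K) j (chart N K k p) =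
      χ K k j (PrimeSpectrum.comap (Polynomial.evalRingHom (0 : MvPolynomial (ChartVar N k) K)) p) := by
  show (chart N K k ≫ P1.sect (CohB1.ProjSpace N K) j) p = _
  rw [sect_chart]
  rfl

/-- A dimension bound on a closed set from a bound at its points. -/
theorem dim_le_of_delta {Y : Scheme.{u}} (f : Y ⟶ Spec (CommRingCat.of K)) [LocallyOfFiniteType f] (δ : Y → ℤ)
    (hδ : Cyc.DeltaCompat f δ (fun _ => 0)) {S : Set Y} (hS : IsClosed S) (e : ℕ) (h : ∀ q ∈ S, δ q ≤ e) :
    topologicalKrullDim S ≤ (e : WithBot ℕ∞) := by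
  haveI : QuasiSober S := hS.isClosedEmbedding_subtypeVal.quasiSober
  rw [Groth.L22.FibreDim.topologicalKrullDim_eq_iSup_closure]
  refine iSup_le fun q => ?_
  rw [Groth.L22.FibreDim.subtype_dim_closure]
  obtain ⟨n, hn, hδn⟩ := Groth.Agent.S1919.delta_eq_dim K Y f δ hδ q.1
  refine (Groth.L22.SchemeDim.topologicalKrullDim_mono Set.inter_subset_left).trans ?_
  rw [hn]
  have := h q.1 q.2
  rw [hδn] at this
  exact_mod_cast this

/-- Points of a subset have dimension at most that of the subset. -/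
theorem delta_le_of_dim {Y : Scheme.{u}} (f : Y ⟶ Spec (CommRingCat.of K)) [LocallyOfFiniteType f] (δ : Y → ℤ)
    (hδ : Cyc.DeltaCompat f δ (fun _ => 0)) {S : Set Y} (hS : IsClosed S) (e : ℕ)
    (h : topologicalKrullDim S ≤ (e : WithBot ℕ∞)) {q : Y} (hq : q ∈ S) : δ q ≤ e := by
  obtain ⟨n, hn, hδn⟩ := Groth.Agent.S1919.delta_eq_dim K Y f δ hδ q
  have h1 := (Groth.L22.SchemeDim.topologicalKrullDim_mono
    (closure_minimal (Set.singleton_subset_iff.2 hq) hS)).trans h
  rw [hn] at h1
  rw [hδn]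
  exact_mod_cast h1

end Groth.L22.Moving
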