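import Groth.Agent.L22.Moving.ZeroFibre
import Groth.Agent.L22.IntMult.CycleOne
import Groth.Agent.L22.IntMult.P1Fibre
import Groth.Agent.L16.ProjSpace.Dim

/-!
A family moving a subvariety of projective space into general position.
-/

set_option autoImplicit false
set_option linter.style.haveILetI false
set_option backward.isDefEq.respectTransparency false

universe u

open AlgebraicGeometry CategoryTheory CategoryTheory.Limits MvPolynomial Groth.L16.ProjSpace

noncomputable section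

namespace Groth.L22.Moving

variable {K : Type u} [Field K] {N : ℕ}
variable {δP : ↥(CohB1.ProjSpace N K) → ℤ} {δ' : ↥(CohB1.ProjSpaceOver 1 (CohB1.ProjSpace N K)) → ℤ}
  (hP : Cyc.IsSetup (CohB1.ProjSpace N K) δP)
  (hδP : Cyc.DeltaCompat (CohB1.ProjSpace.toSpec N K) δP (fun _ => 0))
  (hP' : Cyc.IsSetup (CohB1.ProjSpaceOver 1 (CohB1.ProjSpace N K)) δ')
  (hδ' : Cyc.DeltaCompat (CohB1.ProjSpaceOver.toBase 1 (CohB1.ProjSpace N K)) δ' δP)

theorem ne_zero_of_one {Ω : Type u} [Field Ω] {y : Fin (N + 1) → Ω} {i : Fin (N + 1)} (h : y i = 1) : y ≠ 0 :=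
  fun e => one_ne_zero (h.symm.trans (congrFun e i))

/-- The coordinates of a point span the coordinates of its translates. -/
theorem rk_data {Ω : Type u} [Field Ω] [Algebra K Ω] {k i : Fin (N + 1)}
    (φ : Polynomial (MvPolynomial (ChartVar N k) K) →ₐ[K] Ω) (y w : Fin (N + 1) → Ω) (hyi : y i = 1)
    (hφ : ∀ l, φ (Polynomial.C (dehom N K k (X l))) = w l / w k)
    (g : Fin (N + 1) → Fin (N + 1) → K)
    (hw : ∀ l, w l ∈ IntermediateField.adjoin K (crdSet i y ∪ {φ Polynomial.X})) :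
    rk K (Set.range φ) ≤ rk K (crdSet i y ∪ {φ Polynomial.X}) := by
  refine rk_le_of_subset_adjoin ((range_subset φ).trans ?_)
  refine IntermediateField.adjoin_le_iff.2 ?_
  rintro _ (⟨l, rfl⟩ | rfl)
  · show φ (Polynomial.C (X l)) ∈ IntermediateField.adjoin K (crdSet i y ∪ {φ Polynomial.X})
    rw [← dehom_X_ne N K k l, hφ]
    exact div_mem (hw _) (hw _)
  · exact IntermediateField.subset_adjoin K _ (Set.mem_union_right _ rfl)

theorem lin_mem {Ω : Type u} [Field Ω] [Algebra K Ω] (g : Fin (N + 1) → Fin (N + 1) → K) (ε : K) {i : Fin (N + 1)}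
    (y : Fin (N + 1) → Ω) (hyi : y i = 1) (b : Ω) (S : Set Ω) (hb : b ∈ IntermediateField.adjoin K S)
    (hS : crdSet i y ⊆ S) (l : Fin (N + 1)) : lin g ε b y l ∈ IntermediateField.adjoin K S := by
  have hy : ∀ j, y j ∈ IntermediateField.adjoin K S := fun j =>
    IntermediateField.subset_adjoin K S (hS ⟨j, by show y j / y i = y j; rw [hyi, div_one]⟩)
  exact add_mem (mul_mem ((IntermediateField.adjoin K S).algebraMap_mem _) (hy l))
    (mul_mem hb (sum_mem fun j _ => mul_mem ((IntermediateField.adjoin K S).algebraMap_mem _) (hy j)))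

theorem rk_data_fin {Ω : Type u} [Field Ω] [Algebra K Ω] {k i : Fin (N + 1)}
    (φ : Polynomial (MvPolynomial (ChartVar N k) K) →ₐ[K] Ω) (z w : Fin (N + 1) → Ω) (hzi : z i = 1)
    (hφ : ∀ l, φ (Polynomial.C (dehom N K k (X l))) = w l / w k) (g : Fin (N + 1) → Fin (N + 1) → K)
    (hw : w = lin g 1 (φ Polynomial.X) z) :
    rk K (Set.range φ) ≤ rk K (crdSet i z ∪ {φ Polynomial.X}) := by
  have hb : φ Polynomial.X ∈ IntermediateField.adjoin K (crdSet i z ∪ {φ Polynomial.X}) :=
    IntermediateField.subset_adjoin K _ (Set.mem_union_right _ (Set.mem_singleton _))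
  refine rk_data φ z w hzi hφ g fun l => ?_
  rw [congrFun hw l]
  exact lin_mem g 1 z hzi (φ Polynomial.X) (crdSet i z ∪ {φ Polynomial.X}) hb Set.subset_union_left l

theorem rk_data_inf {Ω : Type u} [Field Ω] [Algebra K Ω] {k i : Fin (N + 1)}
    (φ : Polynomial (MvPolynomial (ChartVar N k) K) →ₐ[K] Ω) (z w : Fin (N + 1) → Ω) (hzi : z i = 1)
    (hφ : ∀ l, φ (Polynomial.C (dehom N K k (X l))) = w l / w k) (g : Fin (N + 1) → Fin (N + 1) → K)
    (hw : ∀ l, w l = φ Polynomial.X * z l + lin g 0 1 z l) :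
    rk K (Set.range φ) ≤ rk K (crdSet i z ∪ {φ Polynomial.X}) := by
  have hb : φ Polynomial.X ∈ IntermediateField.adjoin K (crdSet i z ∪ {φ Polynomial.X}) :=
    IntermediateField.subset_adjoin K _ (Set.mem_union_right _ (Set.mem_singleton _))
  have hone : (1 : Ω) ∈ IntermediateField.adjoin K (crdSet i z ∪ {φ Polynomial.X}) := one_mem _
  refine rk_data φ z w hzi hφ g fun l => ?_
  have hzl : z l ∈ IntermediateField.adjoin K (crdSet i z ∪ {φ Polynomial.X}) :=
    IntermediateField.subset_adjoin K _ (Or.inl ⟨l, by show z l / z i = z l; rw [hzi, div_one]⟩)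
  rw [hw l]
  exact add_mem (mul_mem hb hzl)
    (lin_mem g 0 z hzi (1 : Ω) (crdSet i z ∪ {φ Polynomial.X}) hone Set.subset_union_left l)

theorem rk_union_zero {Ω : Type u} [Field Ω] [Algebra K Ω] (S : Set Ω) {b : Ω} (hb : b = 0) :
    rk K (S ∪ {b}) ≤ rk K S := by
  subst hb
  exact rk_le_of_subset_adjoin
    (Set.union_subset (IntermediateField.subset_adjoin K S) (Set.singleton_subset_iff.2 (zero_mem _)))

theorem rk_union_inv {Ω : Type u} [Field Ω] [Algebra K Ω] (S : Set Ω) (b : Ω) :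
    rk K (S ∪ {b}) ≤ rk K (S ∪ {b⁻¹}) := by
  refine rk_le_of_subset_adjoin (Set.union_subset
    (fun x hx => IntermediateField.subset_adjoin K _ (Or.inl hx)) (Set.singleton_subset_iff.2 ?_))
  have h : b⁻¹ ∈ IntermediateField.adjoin K (S ∪ {b⁻¹}) :=
    IntermediateField.subset_adjoin K _ (Set.mem_union_right _ (Set.mem_singleton _))
  have h' := inv_mem h
  rwa [inv_inv] at h'

/-- The transcendence degree of the generic point of the family. -/
theorem rk_evC {L : Type u} [Field L] [Algebra K L] (g : Fin (N + 1) → Fin (N + 1) → K) (T : L)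
    (Y : Fin (N + 1) → L) (k : Fin (N + 1)) (hY : Y k ≠ 0) (hw : lin g 1 T Y k ≠ 0) :
    rk K (Set.range (evC g T Y k 0)) ≤ rk K (crdSet k Y) + 1 := by
  let φ : Polynomial (MvPolynomial (ChartVar N k) K) →ₐ[K] L := evC g T Y k 0
  let z : Fin (N + 1) → L := fun l => Y l / Y k
  let w : Fin (N + 1) → L := fun l => lin g 1 T z l
  have hz : z k = 1 := div_self hY
  have hT : φ Polynomial.X = T := (evC_X g T Y k 0).trans (if_pos rfl)
  have hwc : ∀ l, w l = (Y k)⁻¹ * lin g 1 T Y l := fun l => by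
    show lin g 1 T (fun l => Y l / Y k) l = _
    rw [show (fun l => Y l / Y k) = fun l => (Y k)⁻¹ * Y l from funext fun l => div_eq_inv_mul _ _, lin_smul]
  have hφ : ∀ l, φ (Polynomial.C (dehom N K k (X l))) = w l / w k := fun l => by
    rw [hwc, hwc, mul_div_mul_left _ _ (inv_ne_zero hY)]
    exact (evC_C g T Y k 0 _).trans (crdMap_dehom_X k _ hw l)
  have hmem : ∀ l, w l ∈ IntermediateField.adjoin K (crdSet k z ∪ {φ Polynomial.X}) := fun l =>
    lin_mem g 1 z hz T (crdSet k z ∪ {φ Polynomial.X})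
      (IntermediateField.subset_adjoin K _ (Set.mem_union_right _ hT.symm)) Set.subset_union_left l
  have h := (rk_data φ z w hz hφ g hmem).trans (rk_union_le (crdSet k z) {φ Polynomial.X})
  have hcs : crdSet k z = crdSet k Y := by
    refine congrArg Set.range (funext fun l => ?_)
    show Y l / Y k / (Y k / Y k) = _
    rw [div_self hY, div_one]
  rw [hcs] at h
  exact h.trans (add_le_add le_rfl ((rk_le_encard _).trans (by simp)))

set_option maxHeartbeats 400000 in
include hP hδP hP' hδ' in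
theorem exists_family [IsAlgClosed K] (ξC : ↥(CohB1.ProjSpace N K)) (c : ℕ) (hc : δP ξC = c) (hcN : c < N)
    (ξX : ↥(CohB1.ProjSpace N K)) (n : ℕ) (hn : δP ξX = n) {m : ℕ} (η : Fin m → ↥(CohB1.ProjSpace N K))
    (d : Fin m → ℕ) (hd : ∀ i, δP (η i) = d i)
    (hCX : IntMult.ProperInt (closure {ξC}) (closure {ξX}) N c n) :
    ∃ ζ : ↥(CohB1.ProjSpaceOver 1 (CohB1.ProjSpace N K)), δ' ζ = c + 1 ∧
      (∀ (C' : Scheme.{u}) [IsReduced C'] (ι' : C' ⟶ CohB1.ProjSpaceOver 1 (CohB1.ProjSpace N K))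
        [IsClosedImmersion ι'], Set.range ι' = closure {ζ} →
          IsReduced (pullback ι' (P1.sect (CohB1.ProjSpace N K) 0))) ∧
      (∀ z, ζ ⤳ P1.sect (CohB1.ProjSpace N K) 0 z ↔ ξC ⤳ z) ∧
      (∀ q, ζ ⤳ q → ξX ⤳ CohB1.ProjSpaceOver.toBase 1 _ q → δ' q + N ≤ c + n + 1) ∧
      ∀ i z, ζ ⤳ P1.sect (CohB1.ProjSpace N K) 1 z → η i ⤳ z → δP z + N ≤ c + d i := by
  classical
  haveI := hP.1
  obtain ⟨F, iF, aF, y, hy, hyC⟩ := exists_pt ξC
  obtain ⟨k0, hk0⟩ : ∃ k, y k ≠ 0 := Function.ne_iff.1 hy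
  obtain ⟨g, hg⟩ := exists_general ξC (Fin.cons ξX η) hP hδP (c := c) hc.le hcN (Fin.cons n d) (fun i => by
    refine Fin.cases ?_ (fun i => ?_) i
    · simpa using hn.le
    · simpa using (hd i).le)
  have hY : yT y ≠ 0 := fun h => hk0 ((map_eq_zero _).1 (congrFun h k0))
  have hptY : pt (K := K) (yT y) hY = ξC :=
    (pt_map (IsScalarTower.toAlgHom K F (RatFunc F)) y hy hY).trans hyC
  let ζ := zeta (g := g) (y := y) k0
  have hker : ∀ (Ω : Type u) [Field Ω] [Algebra K Ω] (i : Fin (N + 1)) (z : Fin (N + 1) → Ω) (hz : z ≠ 0),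
      z i = 1 → pt (K := K) (yT y) hY ⤳ pt z hz → (∀ b, lin g 1 b z ≠ 0) ∧ lin g 0 1 z ≠ 0 :=
    fun Ω _ _ i z hz hzi hs => ⟨(hg Ω i z hz hzi (hptY ▸ hs)).1, (hg Ω i z hz hzi (hptY ▸ hs)).2.1⟩
  have data := fun (k : Fin (N + 1)) (j : Fin (1 + 1))
      (p : PrimeSpectrum (Polynomial (MvPolynomial (ChartVar N k) K))) (h : ζ ⤳ χ K k j p) =>
    exists_data g (RatFunc.X : RatFunc F) RatFunc.X_ne_zero (yT y) hY k ((specializes_χ_iff hk0 k j p).1 h).1 j
      hker p ((specializes_χ_iff hk0 k j p).1 h).2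
  have hzero : ∀ z, ζ ⤳ P1.sect (CohB1.ProjSpace N K) 0 z ↔ ξC ⤳ z := fun z => by
    rw [specializes_sect_zero_iff hk0 hy z, hyC]
  refine ⟨ζ, ?_, fun C' _ ι' _ hr => isReduced_zero_fibre hk0 ι' hr, hzero, ?_, ?_⟩
  · have hle : ζ ⤳ P1.sect (CohB1.ProjSpace N K) 0 ξC := (hzero ξC).2 specializes_rfl
    have hne : ζ ≠ P1.sect (CohB1.ProjSpace N K) 0 ξC := by
      intro e
      rw [← hyC, pt_eq_chart k0 y hy hk0, sect_chart_apply] at e
      have e2 := (χ K k0 0).isOpenEmbedding.injective e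
      have h1 : Polynomial.X ∈ RingHom.ker (evC g (RatFunc.X : RatFunc F) (yT y) k0 0).toRingHom := by
        rw [show RingHom.ker (evC g (RatFunc.X : RatFunc F) (yT y) k0 0).toRingHom = _ from
          congrArg PrimeSpectrum.asIdeal e2]
        show Polynomial.eval 0 Polynomial.X ∈ RingHom.ker _
        rw [Polynomial.eval_X]
        exact Ideal.zero_mem _
      rw [RingHom.mem_ker] at h1
      exact RatFunc.X_ne_zero ((evC_X g _ (yT y) k0 0).symm.trans h1)
    have h1 := (hP'.2.2 ζ _ hle hne).1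
    rw [Groth.L22.IntMult.P1F.delta_sect' (CohB1.ProjSpace N K) δP δ' hδ', hc] at h1
    obtain ⟨e, he, hrk⟩ := delta_χ hδP hδ' k0 0 (evC g (RatFunc.X : RatFunc F) (yT y) k0 0)
      (kerPt (evC g (RatFunc.X : RatFunc F) (yT y) k0 0)) rfl
    have hYk : yT y k0 ≠ 0 := fun h => hk0 ((map_eq_zero _).1 h)
    obtain ⟨e', he', hrk'⟩ := delta_pt hδP k0 (yT y) hY hYk
    have h5 := (rk_evC g (RatFunc.X : RatFunc F) (yT y) k0 hYk (linT_ne_zero g y hk0)).trans
      (add_le_add_left hrk'.le 1)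
    rw [hrk] at h5
    have h6 : (c : ℤ) = e' := by rw [← hc, ← hptY]; exact he'
    have h7 : e ≤ e' + 1 := by exact_mod_cast h5
    show δ' (χ K k0 0 _) = _
    have h8 : δ' (χ K k0 0 (kerPt (evC g (RatFunc.X : RatFunc F) (yT y) k0 0))) = e := he
    rw [h8]
    have h9 : (c : ℤ) < e := by rw [← h8]; exact h1
    omega
  · intro q hq hX
    obtain ⟨k, j, p, rfl⟩ := exists_χ q
    obtain ⟨Ω, iΩ, aΩ, φ, i, z, hz, w, hφker, hzi, hsp, hwk, hφ, hj0, hj1⟩ := data k j p hq
    rw [toBase_χ_pt k j φ w hwk hφ p hφker] at hX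
    have hwne : w ≠ 0 := fun h => hwk (congrFun h k)
    obtain ⟨e, he, hrk⟩ := delta_χ hδP hδ' k j φ p hφker
    obtain ⟨-, hinf, hpro, hproInf⟩ := hg Ω i z hz hzi (hptY ▸ hsp)
    rw [he]
    suffices h : rk K (Set.range φ) + (N : ℕ∞) ≤ ((c + n + 1 : ℕ) : ℕ∞) by
      rw [hrk] at h
      have h' : e + N ≤ c + n + 1 := by exact_mod_cast h
      omega
    by_cases hj : j = 0
    · have h1 := rk_data_fin φ z w hzi hφ g (hj0 hj)
      by_cases hb : φ Polynomial.X = 0
      · have hwz : w = z := by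
          rw [hj0 hj, hb]; funext l; simp [lin]
        have h2 := rk_union_zero (K := K) (crdSet i z) hb
        have hmem : pt (K := K) z hz ∈ closure {ξC} ∩ closure {ξX} := by
          refine ⟨specializes_iff_mem_closure.1 (hptY ▸ hsp), specializes_iff_mem_closure.1 ?_⟩
          rwa [pt_congr (K := K) hwne hz hwz] at hX
        obtain ⟨hNcn, hdim⟩ := hCX ⟨_, hmem⟩
        obtain ⟨e', he', hrk'⟩ := delta_pt hδP i z hz (by rw [hzi]; exact one_ne_zero)
        have h3 := delta_le_of_dim _ δP hδP (isClosed_closure.inter isClosed_closure) _ hdim hmem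
        rw [he'] at h3
        have h4 : e' + N ≤ c + n + 1 := by omega
        refine (add_le_add_left ((h1.trans h2).trans hrk'.le) _).trans ?_
        exact_mod_cast h4
      · have hne : lin g 1 (φ Polynomial.X) z ≠ 0 := hj0 hj ▸ hwne
        have hX' : ξX ⤳ pt (lin g 1 (φ Polynomial.X) z) hne := (pt_congr (K := K) hwne hne (hj0 hj)) ▸ hX
        have h2 := hpro 0 (φ Polynomial.X) hne hb (by simpa using hX')
        simp only [Fin.cons_zero] at h2
        exact (add_le_add_left h1 _).trans h2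
    · have h1 := rk_data_inf φ z w hzi hφ g (hj1 hj)
      by_cases hb : φ Polynomial.X = 0
      · have hwz : w = lin g 0 1 z := funext fun l => by rw [hj1 hj l, hb, zero_mul, zero_add]
        have hX' : ξX ⤳ pt (lin g 0 1 z) hinf := (pt_congr (K := K) hwne hinf hwz) ▸ hX
        have h2 := hproInf 0 hinf (by simpa using hX')
        simp only [Fin.cons_zero] at h2
        refine (add_le_add_left (h1.trans (rk_union_zero (K := K) (crdSet i z) hb)) _).trans (h2.trans ?_)
        exact_mod_cast Nat.le_succ _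
      · have hne : lin g 1 (φ Polynomial.X)⁻¹ z ≠ 0 := (hker Ω i z hz hzi hsp).1 _
        have hscale : ∀ l, w l = φ Polynomial.X * lin g 1 (φ Polynomial.X)⁻¹ z l := fun l => by
          rw [hj1 hj l]
          simp only [lin, map_one, map_zero, zero_mul, zero_add, one_mul, mul_add]
          rw [mul_inv_cancel_left₀ hb]
        rw [pt_scale hne hwne hb hscale] at hX
        have h2 := hpro 0 (φ Polynomial.X)⁻¹ hne (inv_ne_zero hb) (by simpa using hX)
        simp only [Fin.cons_zero] at h2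
        exact (add_le_add_left (h1.trans (rk_union_inv (K := K) (crdSet i z) (φ Polynomial.X))) _).trans h2
  · intro i₀ z₀ hq hT
    obtain ⟨k, hk⟩ := exists_mem_basicOpen_X N K z₀
    rw [← opensRange_chart] at hk
    obtain ⟨p0, rfl⟩ := hk
    rw [← Groth.L22.IntMult.P1F.delta_sect' (CohB1.ProjSpace N K) δP δ' hδ' 1, sect_chart_apply]
    rw [sect_chart_apply] at hq
    let p : PrimeSpectrum (Polynomial (MvPolynomial (ChartVar N k) K)) :=
      PrimeSpectrum.comap (Polynomial.evalRingHom (0 : MvPolynomial (ChartVar N k) K)) p0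
    have hbase : CohB1.ProjSpaceOver.toBase 1 _ (χ K k 1 p) = chart N K k p0 := by
      rw [← sect_chart_apply]; exact Groth.L22.P1Rat.toBase_sect _ 1 _
    obtain ⟨Ω, iΩ, aΩ, φ, i, z, hz, w, hφker, hzi, hsp, hwk, hφ, hj0, hj1⟩ := data k 1 p hq
    rw [← hbase, toBase_χ_pt k 1 φ w hwk hφ p hφker] at hT
    have hwne : w ≠ 0 := fun h => hwk (congrFun h k)
    obtain ⟨e, he, hrk⟩ := delta_χ hδP hδ' k 1 φ p hφker
    obtain ⟨-, hinf, hpro, hproInf⟩ := hg Ω i z hz hzi (hptY ▸ hsp)
    have hb : φ Polynomial.X = 0 := by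
      have h1 : Polynomial.X ∈ RingHom.ker φ.toRingHom := by
        rw [hφker]
        show Polynomial.eval 0 Polynomial.X ∈ p0.asIdeal
        rw [Polynomial.eval_X]
        exact Ideal.zero_mem _
      exact h1
    have hwz : w = lin g 0 1 z := funext fun l => by rw [hj1 (by simp) l, hb, zero_mul, zero_add]
    have h1 := rk_data_inf φ z w hzi hφ g (hj1 (by simp))
    have h3 := rk_union_zero (K := K) (crdSet i z) hb
    have hT' : η i₀ ⤳ pt (lin g 0 1 z) hinf := (pt_congr (K := K) hwne hinf hwz) ▸ hT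
    have h2 := hproInf i₀.succ hinf (by simpa using hT')
    rw [he]
    have h4 := (add_le_add_left (h1.trans h3) _).trans h2
    rw [hrk, Fin.cons_succ] at h4
    have h5 : e + N ≤ c + d i₀ := by exact_mod_cast h4
    omega

end Groth.L22.Moving
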