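import Groth.Agent.L22.Moving.Special
import Mathlib.LinearAlgebra.Matrix.Adjugate
import Mathlib.FieldTheory.RatFunc.Basic
import Mathlib.FieldTheory.RatFunc.AsPolynomial

/-!
The pencil of translates at the parameter zero: the fibre is the original subvariety.
-/

set_option autoImplicit false
set_option linter.style.haveILetI false
set_option backward.isDefEq.respectTransparency false

universe u

open MvPolynomial Groth.L16.ProjSpace

noncomputable section

namespace Groth.L22.Moving

variable {K : Type u} [Field K] {N : ℕ} {F : Type u} [Field F] [Algebra K F]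
variable (g : Fin (N + 1) → Fin (N + 1) → K) (y : Fin (N + 1) → F)

/-- The coordinates in the rational function field. -/
abbrev yT : Fin (N + 1) → RatFunc F := fun l => algebraMap F (RatFunc F) (y l)

/-- The moved coordinates as polynomials in the parameter. -/
def wP : Fin (N + 1) → Polynomial F := lin g 1 Polynomial.X fun l => Polynomial.C (y l)

theorem algebraMap_wP (l : Fin (N + 1)) :
    algebraMap (Polynomial F) (RatFunc F) (wP g y l) = lin g 1 RatFunc.X (yT y) l := by
  rw [wP, show algebraMap (Polynomial F) (RatFunc F) =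
    (IsScalarTower.toAlgHom K (Polynomial F) (RatFunc F)).toRingHom from rfl]
  refine (map_lin (IsScalarTower.toAlgHom K (Polynomial F) (RatFunc F)) g 1 Polynomial.X _ l).trans ?_
  simp only [IsScalarTower.toAlgHom_apply, RatFunc.algebraMap_X, RatFunc.algebraMap_C]
  rfl

theorem eval_wP (l : Fin (N + 1)) : (wP g y l).eval 0 = y l := by
  simp [wP, lin, Polynomial.eval_finsetSum]

theorem linT_ne_zero {k : Fin (N + 1)} (hk : y k ≠ 0) : lin g 1 (RatFunc.X : RatFunc F) (yT y) k ≠ 0 := by
  rw [← algebraMap_wP]
  refine RatFunc.algebraMap_ne_zero fun h => hk ?_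
  rw [← eval_wP g y k, h, Polynomial.eval_zero]

/-- A relation of the family becomes a relation of the original at the parameter zero. -/
theorem eval_zero_of_evC (k : Fin (N + 1)) (hk : y k ≠ 0)
    (f : Polynomial (MvPolynomial (ChartVar N k) K)) (hf : evC g RatFunc.X (yT y) k 0 f = 0) :
    crdMap (K := K) k y (f.eval 0) = 0 := by
  classical
  let d := wP g y k
  let S := Localization.Away d
  have hd0 : d ≠ 0 := fun h => hk (by rw [← eval_wP g y k]; show d.eval 0 = 0; rw [h, Polynomial.eval_zero])
  have hle : Submonoid.powers d ≤ nonZeroDivisors (Polynomial F) :=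
    powers_le_nonZeroDivisors_of_noZeroDivisors hd0
  have huL : IsUnit (algebraMap (Polynomial F) (RatFunc F) d) := isUnit_iff_ne_zero.2 (RatFunc.algebraMap_ne_zero hd0)
  have huF : IsUnit (Polynomial.evalRingHom (0 : F) d) := by
    rw [Polynomial.coe_evalRingHom, eval_wP]; exact isUnit_iff_ne_zero.2 hk
  let toL : S →+* RatFunc F := IsLocalization.Away.lift d huL
  let toF : S →+* F := IsLocalization.Away.lift d huF
  have hL : ∀ a, toL (algebraMap (Polynomial F) S a) = algebraMap (Polynomial F) (RatFunc F) a :=
    IsLocalization.Away.lift_eq _ huL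
  have hF : ∀ a, toF (algebraMap (Polynomial F) S a) = a.eval 0 := IsLocalization.Away.lift_eq _ huF
  have hinj : Function.Injective toL :=
    (IsLocalization.lift_injective_iff _).2 fun a b => by
      rw [(IsFractionRing.injective (Polynomial F) (RatFunc F)).eq_iff, (IsLocalization.injective S hle).eq_iff]
  let v : Fin (N + 1) → S := fun l => algebraMap (Polynomial F) S (wP g y l) * IsLocalization.Away.invSelf d
  have hinv : algebraMap (Polynomial F) S d * IsLocalization.Away.invSelf (S := S) d = 1 :=
    IsLocalization.Away.mul_invSelf d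
  have hvL : ∀ l, toL (v l) = lin g 1 RatFunc.X (yT y) l / lin g 1 RatFunc.X (yT y) k := fun l => by
    rw [eq_div_iff (linT_ne_zero g y hk), ← algebraMap_wP, ← algebraMap_wP, ← hL, ← map_mul, ← hL]
    congr 1
    show algebraMap (Polynomial F) S (wP g y l) * _ * algebraMap (Polynomial F) S d = _
    rw [mul_assoc, mul_comm (IsLocalization.Away.invSelf d), hinv, mul_one]
  have hvF : ∀ l, toF (v l) = y l / y k := fun l => by
    rw [eq_div_iff hk, ← eval_wP g y k, ← eval_wP g y l, ← hF, ← map_mul, ← hF]
    congr 1
    show algebraMap (Polynomial F) S (wP g y l) * _ * algebraMap (Polynomial F) S d = _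
    rw [mul_assoc, mul_comm (IsLocalization.Away.invSelf d), hinv, mul_one]
  let ψ : Polynomial (MvPolynomial (ChartVar N k) K) →+* S := Polynomial.eval₂RingHom
    (MvPolynomial.eval₂Hom ((algebraMap (Polynomial F) S).comp (algebraMap K (Polynomial F))) fun l => v l.1)
    (algebraMap (Polynomial F) S Polynomial.X)
  have e1 : toL.comp ψ = (evC g RatFunc.X (yT y) k 0).toRingHom := by
    refine Polynomial.ringHom_ext (fun a => ?_) ?_
    · show toL (ψ (Polynomial.C a)) = evC g RatFunc.X (yT y) k 0 (Polynomial.C a)
      rw [show ψ (Polynomial.C a) = _ from Polynomial.eval₂_C _ _, evC_C]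
      refine DFunLike.congr_fun (MvPolynomial.ringHom_ext
        (f := toL.comp (MvPolynomial.eval₂Hom ((algebraMap (Polynomial F) S).comp (algebraMap K (Polynomial F)))
          fun l : ChartVar N k => v l.1))
        (g := (crdMap (K := K) k (lin g 1 RatFunc.X (yT y))).toRingHom) (fun b => ?_) (fun l => ?_)) a
      · rw [RingHom.comp_apply, eval₂Hom_C, RingHom.comp_apply, hL]
        show _ = crdMap (K := K) k (lin g 1 RatFunc.X (yT y)) (C b)
        rw [aeval_C]
        exact (IsScalarTower.algebraMap_apply K (Polynomial F) (RatFunc F) b).symm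
      · rw [RingHom.comp_apply, eval₂Hom_X', hvL]
        exact (aeval_X (fun l : ChartVar N k => lin g 1 RatFunc.X (yT y) l.1 / lin g 1 RatFunc.X (yT y) k) l).symm
    · show toL (ψ Polynomial.X) = evC g RatFunc.X (yT y) k 0 Polynomial.X
      rw [show ψ Polynomial.X = _ from Polynomial.eval₂_X _ _, hL, evC_X, tVal, if_pos rfl, RatFunc.algebraMap_X]
  have e2 : toF.comp ψ = (crdMap (K := K) k y).toRingHom.comp (Polynomial.evalRingHom 0) := by
    refine Polynomial.ringHom_ext (fun a => ?_) ?_
    · show toF (ψ (Polynomial.C a)) = crdMap (K := K) k y (Polynomial.eval 0 (Polynomial.C a))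
      rw [show ψ (Polynomial.C a) = _ from Polynomial.eval₂_C _ _, Polynomial.eval_C]
      refine DFunLike.congr_fun (MvPolynomial.ringHom_ext
        (f := toF.comp (MvPolynomial.eval₂Hom ((algebraMap (Polynomial F) S).comp (algebraMap K (Polynomial F)))
          fun l : ChartVar N k => v l.1))
        (g := (crdMap (K := K) k y).toRingHom) (fun b => ?_) (fun l => ?_)) a
      · rw [RingHom.comp_apply, eval₂Hom_C, RingHom.comp_apply, hF]
        show _ = crdMap (K := K) k y (C b)
        rw [aeval_C, Polynomial.algebraMap_apply, Polynomial.eval_C]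
      · rw [RingHom.comp_apply, eval₂Hom_X', hvF]
        exact (aeval_X (fun l : ChartVar N k => y l.1 / y k) l).symm
    · show toF (ψ Polynomial.X) = crdMap (K := K) k y (Polynomial.eval 0 Polynomial.X)
      rw [show ψ Polynomial.X = _ from Polynomial.eval₂_X _ _, hF]
      simp
  have h0 : ψ f = 0 := hinj (by
    rw [map_zero]
    exact (RingHom.congr_fun e1 f).trans hf)
  have h1 := RingHom.congr_fun e2 f
  rw [RingHom.comp_apply, h0, map_zero] at h1
  exact h1.symm

/-- The pencil as a matrix over the chart. -/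
def pencil (k : Fin (N + 1)) : Matrix (Fin (N + 1)) (Fin (N + 1)) (Polynomial (MvPolynomial (ChartVar N k) K)) :=
  Matrix.of fun a b => (if a = b then 1 else 0) + Polynomial.X * algebraMap K _ (g a b)

/-- The inverse image coordinates. -/
def uP (k : Fin (N + 1)) : Fin (N + 1) → Polynomial (MvPolynomial (ChartVar N k) K) :=
  (pencil g k).adjugate.mulVec fun b => Polynomial.C (dehom N K k (X b))

theorem eval_uP (k : Fin (N + 1)) (a : Fin (N + 1)) : (uP g k a).eval 0 = dehom N K k (X a) := by
  classical
  have h : (Polynomial.evalRingHom (0 : MvPolynomial (ChartVar N k) K)).mapMatrix (pencil g k) = 1 := by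
    ext a b
    simp only [RingHom.mapMatrix_apply, Matrix.map_apply, pencil, Matrix.of_apply, Matrix.one_apply,
      Polynomial.coe_evalRingHom]
    split_ifs <;> simp
  have h2 := (Polynomial.evalRingHom (0 : MvPolynomial (ChartVar N k) K)).map_adjugate (pencil g k)
  rw [h, Matrix.adjugate_one] at h2
  rw [uP, ← Polynomial.coe_evalRingHom, Matrix.mulVec, dotProduct, map_sum]
  have h3 : ∀ b, Polynomial.evalRingHom (0 : MvPolynomial (ChartVar N k) K) ((pencil g k).adjugate a b) =
      (1 : Matrix (Fin (N + 1)) (Fin (N + 1)) (MvPolynomial (ChartVar N k) K)) a b := fun b =>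
    congrFun (congrFun h2 a) b
  simp only [map_mul, h3, Matrix.one_apply, ite_mul, one_mul, zero_mul, Finset.sum_ite_eq, Finset.mem_univ,
    if_true]
  simp

theorem evC_uP (k : Fin (N + 1)) (hk : lin g 1 (RatFunc.X : RatFunc F) (yT y) k ≠ 0) :
    ∃ δ : RatFunc F, δ ≠ 0 ∧ ∀ a, evC g RatFunc.X (yT y) k 0 (uP g k a) = δ * (yT y a / lin g 1 RatFunc.X (yT y) k) := by
  classical
  let ev := (evC g RatFunc.X (yT y) k 0).toRingHom
  let G : Matrix (Fin (N + 1)) (Fin (N + 1)) (RatFunc F) := ev.mapMatrix (pencil g k)
  have hG : ∀ a b, G a b = (if a = b then 1 else 0) + RatFunc.X * algebraMap K (RatFunc F) (g a b) := fun a b => by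
    show evC g RatFunc.X (yT y) k 0 (pencil g k a b) = _
    rw [pencil, Matrix.of_apply, map_add, map_mul, evC_X, AlgHom.commutes, tVal, if_pos rfl]
    split_ifs <;> simp
  have hGY : G.mulVec (yT y) = lin g 1 RatFunc.X (yT y) := funext fun a => by
    simp only [Matrix.mulVec, dotProduct, hG, add_mul, Finset.sum_add_distrib, ite_mul, one_mul, zero_mul,
      Finset.sum_ite_eq, Finset.mem_univ, if_true, lin, map_one, mul_assoc, ← Finset.mul_sum]
  refine ⟨G.det, ?_, fun a => ?_⟩
  · intro h0
    let M : Matrix (Fin (N + 1)) (Fin (N + 1)) (Polynomial F) :=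
      Matrix.of fun a b => (if a = b then 1 else 0) + Polynomial.X * algebraMap K (Polynomial F) (g a b)
    have hM : (algebraMap (Polynomial F) (RatFunc F)).mapMatrix M = G := by
      ext a b
      rw [RingHom.mapMatrix_apply, Matrix.map_apply, hG]
      simp only [M, Matrix.of_apply]
      rw [map_add, map_mul, RatFunc.algebraMap_X, ← IsScalarTower.algebraMap_apply K (Polynomial F) (RatFunc F)]
      split_ifs <;> simp
    rw [← hM, ← RingHom.map_det, map_eq_zero_iff _ (IsFractionRing.injective (Polynomial F) (RatFunc F))] at h0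
    have h1 := congrArg (Polynomial.evalRingHom (0 : F)) h0
    rw [RingHom.map_det, map_zero, show (Polynomial.evalRingHom (0 : F)).mapMatrix M = 1 from ?_, Matrix.det_one] at h1
    · exact one_ne_zero h1
    · ext a b
      simp only [RingHom.mapMatrix_apply, Matrix.map_apply, M, Matrix.of_apply, Matrix.one_apply,
        Polynomial.coe_evalRingHom]
      split_ifs <;> simp
  · have h1 : evC g RatFunc.X (yT y) k 0 (uP g k a) =
        (G.adjugate.mulVec fun b => lin g 1 RatFunc.X (yT y) b / lin g 1 RatFunc.X (yT y) k) a := by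
      show ev (uP g k a) = _
      rw [uP, RingHom.map_mulVec]
      refine congrFun (congrArg₂ Matrix.mulVec (ev.map_adjugate (pencil g k)) (funext fun b => ?_)) a
      show evC g RatFunc.X (yT y) k 0 (Polynomial.C (dehom N K k (X b))) = _
      rw [evC_C, crdMap_dehom_X k _ hk]
    rw [h1, show (fun b => lin g 1 RatFunc.X (yT y) b / lin g 1 RatFunc.X (yT y) k) =
      (lin g 1 RatFunc.X (yT y) k)⁻¹ • G.mulVec (yT y) from by
        rw [hGY]; funext b; simp [div_eq_inv_mul], Matrix.mulVec_smul, Matrix.mulVec_mulVec,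
      Matrix.adjugate_mul, Matrix.smul_mulVec, Matrix.one_mulVec]
    simp only [Pi.smul_apply, smul_eq_mul]
    ring

/-- Relations of the original extend to relations of the family. -/
theorem exists_evC_zero (k : Fin (N + 1)) (hk : y k ≠ 0) (a : MvPolynomial (ChartVar N k) K)
    (ha : crdMap (K := K) k y a = 0) :
    ∃ h, evC g RatFunc.X (yT y) k 0 h = 0 ∧ h.eval 0 = a := by
  classical
  obtain ⟨δ, hδ, hu⟩ := evC_uP g y k (linT_ne_zero g y hk)
  let u := uP g k k
  let S := Localization.Away u
  have hu0 : u.eval 0 = 1 := by rw [eval_uP, dehom_X_self]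
  have hyk : yT y k ≠ 0 := fun h => hk ((map_eq_zero _).1 h)
  have huL : IsUnit ((evC g RatFunc.X (yT y) k 0).toRingHom u) :=
    isUnit_iff_ne_zero.2 (by
      show evC g RatFunc.X (yT y) k 0 u ≠ 0
      rw [hu]; exact mul_ne_zero hδ (div_ne_zero hyk (linT_ne_zero g y hk)))
  have huR : IsUnit (Polynomial.evalRingHom (0 : MvPolynomial (ChartVar N k) K) u) := by
    rw [Polynomial.coe_evalRingHom, hu0]; exact isUnit_one
  let toL : S →+* RatFunc F := IsLocalization.Away.lift u huL
  let toR : S →+* MvPolynomial (ChartVar N k) K := IsLocalization.Away.lift u huR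
  have hL : ∀ p, toL (algebraMap _ S p) = evC g RatFunc.X (yT y) k 0 p := IsLocalization.Away.lift_eq _ huL
  have hR : ∀ p : Polynomial (MvPolynomial (ChartVar N k) K), toR (algebraMap _ S p) = p.eval 0 := IsLocalization.Away.lift_eq _ huR
  let v : Fin (N + 1) → S := fun l => algebraMap _ S (uP g k l) * IsLocalization.Away.invSelf u
  have hinv : algebraMap _ S u * IsLocalization.Away.invSelf (S := S) u = 1 :=
    IsLocalization.Away.mul_invSelf u
  have hvm : ∀ l, v l * algebraMap _ S u = algebraMap _ S (uP g k l) := fun l => by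
    show algebraMap _ S (uP g k l) * _ * _ = _
    rw [mul_assoc, mul_comm (IsLocalization.Away.invSelf u), hinv, mul_one]
  let θ : MvPolynomial (ChartVar N k) K →+* S := MvPolynomial.eval₂Hom
    ((algebraMap (Polynomial (MvPolynomial (ChartVar N k) K)) S).comp (algebraMap K _)) fun l => v l.1
  have hR' : toR (θ a) = a := by
    refine DFunLike.congr_fun (MvPolynomial.ringHom_ext (f := toR.comp θ) (g := RingHom.id _) (fun b => ?_)
      (fun l => ?_)) a
    · rw [RingHom.comp_apply, eval₂Hom_C, RingHom.comp_apply, hR, Polynomial.algebraMap_apply, Polynomial.eval_C]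
      rfl
    · rw [RingHom.comp_apply, eval₂Hom_X', RingHom.id_apply]
      have h := congrArg toR (hvm l.1)
      rw [map_mul, hR, hR, hu0, mul_one, eval_uP, dehom_X_ne] at h
      exact h
  have hL' : toL (θ a) = 0 := by
    have e : toL.comp θ = (algebraMap F (RatFunc F)).comp (crdMap (K := K) k y).toRingHom := by
      refine MvPolynomial.ringHom_ext (fun b => ?_) (fun l => ?_)
      · rw [RingHom.comp_apply, eval₂Hom_C, RingHom.comp_apply, hL, AlgHom.commutes]
        show _ = algebraMap F (RatFunc F) (crdMap (K := K) k y (C b))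
        rw [aeval_C]
        exact IsScalarTower.algebraMap_apply K F (RatFunc F) b
      · rw [RingHom.comp_apply, eval₂Hom_X']
        show _ = algebraMap F (RatFunc F) (crdMap (K := K) k y (X l))
        rw [aeval_X, map_div₀, eq_div_iff hyk]
        have h := congrArg toL (hvm l.1)
        rw [map_mul, hL, hL, hu, hu] at h
        refine mul_left_cancel₀ (div_ne_zero hδ (linT_ne_zero g y hk)) ?_
        show δ / lin g 1 RatFunc.X (yT y) k * (toL (v l.1) * yT y k) = δ / lin g 1 RatFunc.X (yT y) k * yT y l.1
        calc δ / lin g 1 RatFunc.X (yT y) k * (toL (v l.1) * yT y k)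
            = toL (v l.1) * (δ * (yT y k / lin g 1 RatFunc.X (yT y) k)) := by ring
          _ = δ * (yT y l.1 / lin g 1 RatFunc.X (yT y) k) := h
          _ = _ := by ring
    rw [show toL (θ a) = toL.comp θ a from rfl, e]
    show algebraMap F (RatFunc F) (crdMap (K := K) k y a) = 0
    rw [ha, map_zero]
  obtain ⟨e, h, hh⟩ := IsLocalization.Away.surj u (θ a)
  refine ⟨h, ?_, ?_⟩
  · rw [← hL, ← hh, map_mul, hL', zero_mul]
  · rw [← hR, ← hh, map_mul, hR', map_pow, hR, hu0, one_pow, mul_one]

/-- Outside the chart of the original, the fibre at zero is empty. -/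
theorem exists_evC_one (k : Fin (N + 1)) (hk : y k = 0)
    (hw : lin g 1 (RatFunc.X : RatFunc F) (yT y) k ≠ 0) :
    ∃ h, evC g RatFunc.X (yT y) k 0 h = 0 ∧ h.eval 0 = 1 := by
  obtain ⟨δ, hδ, hu⟩ := evC_uP g y k hw
  refine ⟨uP g k k, ?_, by rw [eval_uP, dehom_X_self]⟩
  rw [hu]
  simp [yT, hk]

end Groth.L22.Moving
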