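import Groth.Agent.L22.Moving.ChartPt
import Groth.Agent.L22.Moving.Zero

/-!
The generic point of a moving family and its specializations.
-/

set_option autoImplicit false
set_option linter.style.haveILetI false
set_option backward.isDefEq.respectTransparency false

universe u

open AlgebraicGeometry CategoryTheory CategoryTheory.Limits MvPolynomial Groth.L16.ProjSpace

noncomputable section

namespace Groth.L22.Moving

variable {K : Type u} [Field K] {N : ℕ} {F : Type u} [Field F] [Algebra K F]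
variable (g : Fin (N + 1) → Fin (N + 1) → K) (y : Fin (N + 1) → F)

local notation "T" => (RatFunc.X : RatFunc F)

/-- The moved coordinates. -/
abbrev wT : Fin (N + 1) → RatFunc F := lin g 1 (RatFunc.X : RatFunc F) (yT y)

/-- The morphism of the generic point of the family. -/
def mMor (k : Fin (N + 1)) (j : Fin (1 + 1)) :
    Spec (CommRingCat.of (RatFunc F)) ⟶ CohB1.ProjSpaceOver 1 (CohB1.ProjSpace N K) :=
  Spec.map (CommRingCat.ofHom (evC g (RatFunc.X : RatFunc F) (yT y) k j).toRingHom) ≫ χ K k j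

theorem mMor_eq (k k' : Fin (N + 1)) (hk : wT g y k ≠ 0) (hk' : wT g y k' ≠ 0) (j j' : Fin (1 + 1)) :
    mMor g y k j = mMor g y k' j' := by
  have hfst : ∀ (k : Fin (N + 1)) (j : Fin (1 + 1)), mMor g y k j ≫ pullback.fst _ _ =
      Groth.L18.PS.tuplePt (B := CommRingCat.of (RatFunc F)) (σ0 _) ![1, (RatFunc.X : RatFunc F)] 0
        (by simp) := by
    intro k j
    rw [mMor, Category.assoc, χ_fst, Groth.L18.PS.SpecMap_tuplePt]
    have key : ∀ (τ : ULift.{u} ℤ →+* RatFunc F) (b : Fin (1 + 1) → RatFunc F) (hb : IsUnit (b j)) (c : RatFunc F),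
        c ≠ 0 → τ = σ0 _ → (∀ i, b i = c * ![1, (RatFunc.X : RatFunc F)] i) →
        Groth.L18.PS.tuplePt (B := CommRingCat.of (RatFunc F)) τ b j hb =
          Groth.L18.PS.tuplePt (B := CommRingCat.of (RatFunc F)) (σ0 _) ![1, (RatFunc.X : RatFunc F)] 0 (by simp) := by
      intro τ b hb c hc hτ hbc
      subst hτ
      obtain rfl : b = fun i => c * ![1, (RatFunc.X : RatFunc F)] i := funext hbc
      exact Groth.L18.PS.tuplePt_smul (B := CommRingCat.of (RatFunc F)) _ _ c j 0 hb _
    by_cases h : j = 0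
    · refine key _ _ _ 1 one_ne_zero (σ0_unique _) fun i => ?_
      subst h
      show evC g T (yT y) k 0 (lineCrd Polynomial.X 0 i) = _
      fin_cases i <;> simp [lineCrd, evC_X, tVal]
    · obtain rfl : j = 1 := by fin_cases j <;> simp_all
      refine key _ _ _ (RatFunc.X : RatFunc F)⁻¹ (inv_ne_zero RatFunc.X_ne_zero) (σ0_unique _) fun i => ?_
      show evC g T (yT y) k 1 (lineCrd Polynomial.X 1 i) = _
      fin_cases i <;> simp [lineCrd, evC_X, tVal, RatFunc.X_ne_zero]
  have hsnd : ∀ (k : Fin (N + 1)) (hk : wT g y k ≠ 0) (j : Fin (1 + 1)),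
      mMor g y k j ≫ CohB1.ProjSpaceOver.toBase 1 _ =
        Groth.L18.PS.tuplePt (B := CommRingCat.of (RatFunc F)) (algebraMap K (RatFunc F)) (wT g y) k
          (isUnit_iff_ne_zero.2 hk) := by
    intro k hk j
    rw [mMor, Category.assoc, χ_toBase, ← Category.assoc, ← Spec.map_comp, chart_eq_tuplePt,
      Groth.L18.PS.SpecMap_tuplePt]
    have key : ∀ (τ : K →+* RatFunc F) (b : Fin (N + 1) → RatFunc F) (hb : IsUnit (b k)),
        τ = algebraMap K _ → (∀ i, b i = (wT g y k)⁻¹ * wT g y i) →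
        Groth.L18.PS.tuplePt (B := CommRingCat.of (RatFunc F)) τ b k hb =
          Groth.L18.PS.tuplePt (B := CommRingCat.of (RatFunc F)) (algebraMap K (RatFunc F)) (wT g y) k
            (isUnit_iff_ne_zero.2 hk) := by
      intro τ b hb hτ hbc
      subst hτ
      obtain rfl : b = fun i => (wT g y k)⁻¹ * wT g y i := funext hbc
      exact Groth.L18.PS.tuplePt_smul (B := CommRingCat.of (RatFunc F)) _ _ _ k k hb _
    refine key _ _ _ (RingHom.ext fun a => ?_) fun i => ?_
    · show evC g T (yT y) k j (Polynomial.C (C a)) = _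
      rw [evC_C]
      exact aeval_C _ a
    · show evC g T (yT y) k j (Polynomial.C (dehom N K k (X i))) = _
      rw [evC_C, crdMap_dehom_X k _ hk, div_eq_inv_mul]
  apply pullback.hom_ext
  · exact (hfst k j).trans (hfst k' j').symm
  · exact (hsnd k hk j).trans ((Groth.L18.PS.tuplePt_chart_eq (B := CommRingCat.of (RatFunc F)) _ _ k k' _ _).trans
      (hsnd k' hk' j').symm)

variable {g y}

/-- The generic point. -/
def zeta (k0 : Fin (N + 1)) : ↥(CohB1.ProjSpaceOver 1 (CohB1.ProjSpace N K)) :=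
  χ K k0 0 (kerPt (evC g (RatFunc.X : RatFunc F) (yT y) k0 0))

variable {k0 : Fin (N + 1)} (hk0 : y k0 ≠ 0)

include hk0 in
theorem zeta_eq (k : Fin (N + 1)) (hk : wT g y k ≠ 0) (j : Fin (1 + 1)) :
    zeta (g := g) (y := y) k0 = χ K k j (kerPt (evC g (RatFunc.X : RatFunc F) (yT y) k j)) := by
  have h : ∀ (k : Fin (N + 1)) (j : Fin (1 + 1)),
      mMor g y k j (IsLocalRing.closedPoint (RatFunc F)) = χ K k j (kerPt (evC g (RatFunc.X : RatFunc F) (yT y) k j)) := by
    intro k j
    show χ K k j _ = _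
    refine congrArg (χ K k j) (PrimeSpectrum.ext ?_)
    show Ideal.comap _ (IsLocalRing.maximalIdeal (RatFunc F)) = _
    rw [IsLocalRing.maximalIdeal_eq_bot]
    rfl
  rw [zeta, ← h, ← h, mMor_eq g y k0 k (linT_ne_zero g y hk0) hk 0 j]

include hk0 in
theorem toBase_zeta (hw : wT g y ≠ 0) :
    CohB1.ProjSpaceOver.toBase 1 _ (zeta (g := g) (y := y) k0) = pt (wT g y) hw :=
  toBase_χ_pt k0 0 (evC g (RatFunc.X : RatFunc F) (yT y) k0 0) (wT g y) (linT_ne_zero g y hk0)
    (fun l => by rw [evC_C, crdMap_dehom_X k0 _ (linT_ne_zero g y hk0)]) _ rfl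

include hk0 in
/-- Specializations of the generic point inside a chart. -/
theorem specializes_χ_iff (k : Fin (N + 1)) (j : Fin (1 + 1))
    (p : PrimeSpectrum (Polynomial (MvPolynomial (ChartVar N k) K))) :
    zeta (g := g) (y := y) k0 ⤳ χ K k j p ↔
      wT g y k ≠ 0 ∧ RingHom.ker (evC g (RatFunc.X : RatFunc F) (yT y) k j).toRingHom ≤ p.asIdeal := by
  constructor
  · intro h
    have hmem := h.mem_open (χ K k j).isOpenEmbedding.isOpen_range ⟨p, rfl⟩
    have hw0 : wT g y ≠ 0 := fun h0 => linT_ne_zero g y hk0 (congrFun h0 k0)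
    have hk : wT g y k ≠ 0 := by
      obtain ⟨p', hp'⟩ := hmem
      have h1 : pt (wT g y) hw0 ∈ (chart N K k).opensRange := by
        rw [← toBase_zeta hk0 hw0, ← hp', toBase_χ]
        exact ⟨_, rfl⟩
      rw [opensRange_chart] at h1
      have h2 := (pt_mem_iff (wT g y) hw0 (isHomogeneous_X K k) one_pos).1 h1
      rwa [aeval_X] at h2
    refine ⟨hk, ?_⟩
    rw [zeta_eq hk0 k hk j, (χ K k j).isOpenEmbedding.isInducing.specializes_iff,
      ← PrimeSpectrum.le_iff_specializes] at h
    exact h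
  · rintro ⟨hk, hle⟩
    rw [zeta_eq hk0 k hk j]
    exact ((PrimeSpectrum.le_iff_specializes _ p).1 hle).map (χ K k j).continuous

include hk0 in
/-- The fibre at zero is the original subvariety. -/
theorem specializes_sect_zero_iff (hy : y ≠ 0) (z : ↥(CohB1.ProjSpace N K)) :
    zeta (g := g) (y := y) k0 ⤳ P1.sect (CohB1.ProjSpace N K) 0 z ↔ pt (K := K) y hy ⤳ z := by
  obtain ⟨k, hk⟩ := exists_mem_basicOpen_X N K z
  rw [← opensRange_chart] at hk
  obtain ⟨p0, rfl⟩ := hk
  rw [sect_chart_apply, specializes_χ_iff hk0]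
  constructor
  · rintro ⟨hw, hle⟩
    have hyk : y k ≠ 0 := by
      intro h0
      obtain ⟨h, h1, h2⟩ := exists_evC_one g y k h0 hw
      have h3 := hle h1
      refine p0.isPrime.ne_top ((Ideal.eq_top_iff_one _).2 ?_)
      rw [← h2]
      exact h3
    rw [pt_eq_chart k y hy hyk]
    refine Specializes.map ((PrimeSpectrum.le_iff_specializes _ p0).1 fun a ha => ?_) (chart N K k).continuous
    obtain ⟨h, h1, h2⟩ := exists_evC_zero g y k hyk a ha
    rw [← h2]
    exact hle h1
  · intro h
    have hmem := h.mem_open (chart N K k).isOpenEmbedding.isOpen_range ⟨p0, rfl⟩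
    have hyk : y k ≠ 0 := by
      have h1 : pt (K := K) y hy ∈ (chart N K k).opensRange := hmem
      rw [opensRange_chart] at h1
      have h2 := (pt_mem_iff y hy (isHomogeneous_X K k) one_pos).1 h1
      rwa [aeval_X] at h2
    refine ⟨linT_ne_zero g y hyk, fun f hf => ?_⟩
    rw [pt_eq_chart k y hy hyk, (chart N K k).isOpenEmbedding.isInducing.specializes_iff] at h
    exact (PrimeSpectrum.le_iff_specializes _ p0).2 h (eval_zero_of_evC g y k hyk f hf)

/-- The ideal of the fibre at zero in a chart is radical. -/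
theorem map_ker_isRadical (k : Fin (N + 1)) (hk : wT g y k ≠ 0) :
    (Ideal.map (Polynomial.evalRingHom (0 : MvPolynomial (ChartVar N k) K))
      (RingHom.ker (evC g (RatFunc.X : RatFunc F) (yT y) k 0).toRingHom)).IsRadical := by
  have hs : Function.Surjective (Polynomial.evalRingHom (0 : MvPolynomial (ChartVar N k) K)) :=
    fun a => ⟨Polynomial.C a, Polynomial.eval_C⟩
  by_cases h : y k = 0
  · obtain ⟨f, h1, h2⟩ := exists_evC_one g y k h hk
    have : (1 : MvPolynomial (ChartVar N k) K) ∈ Ideal.map (Polynomial.evalRingHom (0 : MvPolynomial (ChartVar N k) K))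
        (RingHom.ker (evC g (RatFunc.X : RatFunc F) (yT y) k 0).toRingHom) :=
      h2 ▸ Ideal.mem_map_of_mem _ h1
    rw [(Ideal.eq_top_iff_one _).2 this]
    exact fun a _ => trivial
  · suffices e : Ideal.map (Polynomial.evalRingHom (0 : MvPolynomial (ChartVar N k) K))
        (RingHom.ker (evC g (RatFunc.X : RatFunc F) (yT y) k 0).toRingHom) =
        RingHom.ker (crdMap (K := K) k y).toRingHom by
      rw [e]; exact (RingHom.ker_isPrime _).isRadical
    refine le_antisymm (Ideal.map_le_iff_le_comap.2 fun f hf => eval_zero_of_evC g y k h f hf) fun a ha => ?_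
    obtain ⟨f, h1, h2⟩ := exists_evC_zero g y k h a ha
    exact (Ideal.mem_map_iff_of_surjective _ hs).2 ⟨f, h1, h2⟩

end Groth.L22.Moving
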