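import Groth.Agent.L22.Moving.Pt
import Mathlib.RingTheory.FiniteType

/-!
General matrices: dimension bounds for the incidence of a linear pencil of translates.
-/

set_option autoImplicit false
set_option linter.style.haveILetI false
set_option backward.isDefEq.respectTransparency false

universe u

open AlgebraicGeometry CategoryTheory MvPolynomial Groth.L16.ProjSpace

noncomputable section

namespace Groth.L22.Moving

variable {K : Type u} [Field K] {N : ℕ}

/-- The vector `ε y + b (g y)`. -/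
def lin {Ω : Type u} [CommRing Ω] [Algebra K Ω] (g : Fin (N + 1) → Fin (N + 1) → K) (ε : K) (b : Ω)
    (y : Fin (N + 1) → Ω) : Fin (N + 1) → Ω :=
  fun i => algebraMap K Ω ε * y i + b * ∑ j, algebraMap K Ω (g i j) * y j

/-- The ideal of a chart cut out by the closure of a point. -/
def clIdeal (k : Fin (N + 1)) (ξ : ↥(CohB1.ProjSpace N K)) : Ideal (MvPolynomial (ChartVar N k) K) :=
  PrimeSpectrum.vanishingIdeal (chart N K k ⁻¹' closure {ξ})

theorem specializes_chart_iff (k : Fin (N + 1)) (ξ : ↥(CohB1.ProjSpace N K))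
    (p : PrimeSpectrum (MvPolynomial (ChartVar N k) K)) :
    ξ ⤳ chart N K k p ↔ clIdeal k ξ ≤ p.asIdeal := by
  have hc : IsClosed (chart N K k ⁻¹' closure {ξ} : Set (PrimeSpectrum (MvPolynomial (ChartVar N k) K))) :=
    isClosed_closure.preimage (chart N K k).continuous
  rw [specializes_iff_mem_closure, ← Set.mem_preimage, ← hc.closure_eq,
    ← PrimeSpectrum.zeroLocus_vanishingIdeal_eq_closure]
  rfl

theorem specializes_pt_iff {Ω : Type u} [Field Ω] [Algebra K Ω] (k : Fin (N + 1)) (ξ : ↥(CohB1.ProjSpace N K))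
    (y : Fin (N + 1) → Ω) (hy : y ≠ 0) (hk : y k ≠ 0) :
    ξ ⤳ pt y hy ↔ clIdeal k ξ ≤ RingHom.ker (crdMap (K := K) k y).toRingHom := by
  rw [pt_eq_chart k y hy hk]
  exact specializes_chart_iff k ξ _

/-- The variables: matrix entries, chart coordinates, and three parameters. -/
abbrev Var (N : ℕ) (k : Fin (N + 1)) : Type :=
  (Fin (N + 1) × Fin (N + 1)) ⊕ ChartVar N k ⊕ Fin 3

variable (k : Fin (N + 1))

/-- The generic vector. -/
def yV : Fin (N + 1) → MvPolynomial (Var N k) K :=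
  fun j => if h : j = k then 1 else X (Sum.inr (Sum.inl ⟨j, h⟩))

/-- The parameter `b`. -/
def bV : MvPolynomial (Var N k) K := X (Sum.inr (Sum.inr 0))

/-- The generic image. -/
def wV (e : Bool) : Fin (N + 1) → MvPolynomial (Var N k) K := fun i =>
  C (if e then (1 : K) else 0) * yV k i + bV k * ∑ j, X (Sum.inl (i, j)) * yV k j

variable (ξC : ↥(CohB1.ProjSpace N K)) {m : ℕ} (η : Fin m → ↥(CohB1.ProjSpace N K))

/-- The incidence ideal. -/
def inc (e : Bool) (t : Option (Fin m × Fin (N + 1))) : Ideal (MvPolynomial (Var N k) K) :=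
  (clIdeal k ξC).map (rename fun j => Sum.inr (Sum.inl j)).toRingHom ⊔
    Ideal.span {bV k * X (Sum.inr (Sum.inr 1)) - 1} ⊔
    (if e then ⊥ else Ideal.span {bV k - 1}) ⊔
    (match t with
      | none => Ideal.span (Set.range (wV k e)) ⊔ Ideal.span {X (Sum.inr (Sum.inr 2))}
      | some (i, l) => Ideal.span {X (Sum.inr (Sum.inr 2)) * wV k e l - 1} ⊔
          (clIdeal l (η i)).map (aeval fun j : ChartVar N l => X (Sum.inr (Sum.inr 2)) * wV k e j.1).toRingHom)

variable {k}
variable {Ω : Type u} [Field Ω] [Algebra K Ω]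

/-- The images of the coordinates. -/
def imY (ψ : MvPolynomial (Var N k) K →ₐ[K] Ω) : Fin (N + 1) → Ω := fun j => ψ (yV k j)

/-- The images of the generic image. -/
def imW (ψ : MvPolynomial (Var N k) K →ₐ[K] Ω) (e : Bool) : Fin (N + 1) → Ω := fun j => ψ (wV k e j)

theorem imY_self (ψ : MvPolynomial (Var N k) K →ₐ[K] Ω) : imY ψ k = 1 := by
  simp [imY, yV]

theorem crdMap_imY (ψ : MvPolynomial (Var N k) K →ₐ[K] Ω) :
    ψ.comp (rename fun j => Sum.inr (Sum.inl j)) = crdMap (K := K) k (imY ψ) :=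
  algHom_ext fun j => by
    simp [crdMap, imY_self]
    simp [imY, yV, j.2]

theorem crdMap_imW (ψ : MvPolynomial (Var N k) K →ₐ[K] Ω) (e : Bool) (l : Fin (N + 1))
    (h : ψ (X (Sum.inr (Sum.inr 2))) * ψ (wV k e l) = 1) :
    ψ.comp (aeval fun j : ChartVar N l => X (Sum.inr (Sum.inr 2)) * wV k e j.1) = crdMap (K := K) l (imW ψ e) :=
  algHom_ext fun j => by
    have hne : ψ (wV k e l) ≠ 0 := fun h0 => by rw [h0, mul_zero] at h; exact zero_ne_one h
    simp only [AlgHom.comp_apply, aeval_X, crdMap, map_mul, imW]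
    rw [eq_inv_of_mul_eq_one_left h, inv_mul_eq_div]

variable {δP : ↥(CohB1.ProjSpace N K) → ℤ} (hP : Cyc.IsSetup (CohB1.ProjSpace N K) δP)
  (hδP : Cyc.DeltaCompat (CohB1.ProjSpace.toSpec N K) δP (fun _ => 0))

include hP hδP in
theorem rk_le_of_specializes {ξ : ↥(CohB1.ProjSpace N K)} {c : ℕ} (hc : δP ξ ≤ c) (l : Fin (N + 1))
    (y : Fin (N + 1) → Ω) (hy : y ≠ 0) (hl : y l ≠ 0) (h : ξ ⤳ pt y hy) : rk K (crdSet l y) ≤ (c : ℕ∞) := by
  obtain ⟨d, hd, hrk⟩ := delta_pt hδP l y hy hl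
  rw [hrk]
  have h1 : δP (pt y hy) ≤ δP ξ := by
    by_cases e : ξ = pt y hy
    · rw [← e]
    · exact (hP.2.2 ξ _ h e).1.le
  exact_mod_cast (show (d : ℤ) ≤ c by omega)

/-- The matrix entries outside the column `k`. -/
def restG (ψ : MvPolynomial (Var N k) K →ₐ[K] Ω) : Set Ω :=
  Set.range fun p : {p : Fin (N + 1) × Fin (N + 1) // p.2 ≠ k} => ψ (X (Sum.inl p.1))

theorem rk_restG (ψ : MvPolynomial (Var N k) K →ₐ[K] Ω) :
    rk K (restG ψ) + ((N + 1 : ℕ) : ℕ∞) ≤ (((N + 1) * (N + 1) : ℕ) : ℕ∞) := by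
  classical
  refine (add_le_add_left (rk_le_card _) _).trans (le_of_eq ?_)
  norm_cast
  rw [Fintype.card_subtype_compl, Fintype.card_prod, Fintype.card_fin]
  have h : Fintype.card {p : Fin (N + 1) × Fin (N + 1) // p.2 = k} = N + 1 := by
    rw [Fintype.card_congr (β := Fin (N + 1))
      ⟨fun p => p.1.1, fun i => ⟨(i, k), rfl⟩, fun ⟨⟨a, b⟩, h⟩ => by subst h; rfl, fun i => rfl⟩, Fintype.card_fin]
  rw [h, Nat.sub_add_cancel (Nat.le_mul_self _)]

theorem vars_subset_adjoin (ψ : MvPolynomial (Var N k) K →ₐ[K] Ω) (e : Bool)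
    (hb : ψ (bV k) * ψ (X (Sum.inr (Sum.inr 1))) = 1)
    (hv : ψ (X (Sum.inr (Sum.inr 2))) ∈ IntermediateField.adjoin K (Set.range (imW ψ e))) :
    (Set.range fun x => ψ (X x)) ⊆ IntermediateField.adjoin K
      (restG ψ ∪ (crdSet k (imY ψ) ∪ ({ψ (bV k)} ∪ Set.range (imW ψ e)))) := by
  set F := IntermediateField.adjoin K (restG ψ ∪ (crdSet k (imY ψ) ∪ ({ψ (bV k)} ∪ Set.range (imW ψ e)))) with hF
  have hs : restG ψ ∪ (crdSet k (imY ψ) ∪ ({ψ (bV k)} ∪ Set.range (imW ψ e))) ⊆ F :=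
    IntermediateField.subset_adjoin K _
  have hy : ∀ j, ψ (yV k j) ∈ F := fun j => hs (Or.inr (Or.inl ⟨j, by show imY ψ j / imY ψ k = imY ψ j; rw [imY_self, div_one]⟩))
  have hbm : ψ (bV k) ∈ F := hs (Or.inr (Or.inr (Or.inl rfl)))
  have hbne : ψ (bV k) ≠ 0 := fun h0 => by rw [h0, zero_mul] at hb; exact zero_ne_one hb
  rintro _ ⟨(⟨i, j⟩ | j | j), rfl⟩
  · by_cases hj : j = k
    · subst hj
      have hw : imW ψ e i ∈ F := hs (Or.inr (Or.inr (Or.inr ⟨i, rfl⟩)))
      have hrest : ∀ l ∈ Finset.univ.erase j, ψ (X (Sum.inl (i, l))) * ψ (yV j l) ∈ F := fun l hl =>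
        mul_mem (hs (Or.inl ⟨⟨(i, l), (Finset.mem_erase.1 hl).1⟩, rfl⟩)) (hy l)
      have h1 : ψ (X (Sum.inl (i, j))) =
          (imW ψ e i - algebraMap K Ω (if e then 1 else 0) * ψ (yV j i)) / ψ (bV j) -
            ∑ l ∈ Finset.univ.erase j, ψ (X (Sum.inl (i, l))) * ψ (yV j l) := by
        rw [imW, wV]
        simp only [map_add, map_mul, map_sum, ← algebraMap_eq, AlgHom.commutes]
        rw [← Finset.add_sum_erase _ _ (Finset.mem_univ j), show ψ (yV j j) = 1 from imY_self ψ, mul_one,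
          add_sub_cancel_left, mul_div_cancel_left₀ _ hbne, add_sub_cancel_right]
      show ψ (X (Sum.inl (i, j))) ∈ F
      rw [h1]
      exact sub_mem (div_mem (sub_mem hw (mul_mem (F.algebraMap_mem _) (hy i))) hbm) (sum_mem hrest)
    · exact hs (Or.inl ⟨⟨(i, j), hj⟩, rfl⟩)
  · have := hy j.1
    rwa [yV, dif_neg j.2] at this
  · fin_cases j
    · exact hbm
    · show ψ (X (Sum.inr (Sum.inr 1))) ∈ F
      rw [eq_inv_of_mul_eq_one_right hb]
      exact inv_mem hbm
    · exact IntermediateField.adjoin.mono K _ _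
        (fun x hx => Or.inr (Or.inr (Or.inr hx))) hv

/-- The weight of an incidence condition. -/
def wt (d : Fin m → ℕ) : Option (Fin m × Fin (N + 1)) → ℕ
  | none => 0
  | some (i, _) => d i + 1

include hP hδP in
theorem inc_bound {c : ℕ} (hc : δP ξC ≤ c) (d : Fin m → ℕ) (hd : ∀ i, δP (η i) ≤ d i) (e : Bool)
    (t : Option (Fin m × Fin (N + 1))) (ψ : MvPolynomial (Var N k) K →ₐ[K] Ω)
    (hψ : inc k ξC η e t ≤ RingHom.ker ψ.toRingHom) :
    rk K (Set.range fun x => ψ (X x)) + ((N + (if e then 0 else 1) : ℕ) : ℕ∞) ≤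
      (((N + 1) * (N + 1) + (c + wt d t) : ℕ) : ℕ∞) := by
  unfold inc at hψ
  simp only [sup_le_iff] at hψ
  obtain ⟨⟨⟨hC, hbu⟩, he⟩, ht⟩ := hψ
  have hb : ψ (bV k) * ψ (X (Sum.inr (Sum.inr 1))) = 1 := by
    have h := hbu (Ideal.mem_span_singleton_self _)
    rw [RingHom.mem_ker] at h
    simpa [sub_eq_zero] using h
  have hy : imY ψ ≠ 0 := fun h0 => one_ne_zero ((imY_self ψ).symm.trans (congrFun h0 k))
  have hyk : imY ψ k ≠ 0 := by rw [imY_self]; exact one_ne_zero
  have hCy : rk K (crdSet k (imY ψ)) ≤ (c : ℕ∞) := by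
    refine rk_le_of_specializes hP hδP hc k _ hy hyk ((specializes_pt_iff k ξC _ hy hyk).2 ?_)
    intro a ha
    have h := hC (Ideal.mem_map_of_mem _ ha)
    rw [RingHom.mem_ker] at h ⊢
    rw [← crdMap_imY ψ]
    exact h
  have hB : rk K ({ψ (bV k)} : Set Ω) ≤ ((if e then 1 else 0 : ℕ) : ℕ∞) := by
    cases e
    · have h := he (by simp only [Bool.false_eq_true, if_false]; exact Ideal.mem_span_singleton_self _)
      rw [RingHom.mem_ker] at h
      have h' : ψ (bV k) = 1 := by simpa [sub_eq_zero] using h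
      refine (rk_le_of_subset_adjoin (S := ∅) ?_).trans ((rk_le_encard _).trans (by simp))
      intro x hx
      rw [Set.mem_singleton_iff.1 hx, h']
      exact one_mem _
    · exact (rk_le_encard _).trans (by simp)
  have hW : rk K (Set.range (imW ψ e)) ≤ (wt d t : ℕ∞) ∧
      ψ (X (Sum.inr (Sum.inr 2))) ∈ IntermediateField.adjoin K (Set.range (imW ψ e)) := by
    match t with
    | none =>
      simp only [sup_le_iff] at ht
      have h0 : ∀ i, imW ψ e i = 0 := fun i => ht.1 (Ideal.subset_span ⟨i, rfl⟩)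
      refine ⟨(rk_le_of_subset_adjoin (S := ∅) ?_).trans ((rk_le_encard _).trans (by simp [wt])), ?_⟩
      · rintro _ ⟨i, rfl⟩
        rw [h0]; exact zero_mem _
      · rw [show ψ (X (Sum.inr (Sum.inr 2))) = 0 from ht.2 (Ideal.mem_span_singleton_self _)]
        exact zero_mem _
    | some (i, l) =>
      simp only [sup_le_iff] at ht
      have hl : ψ (X (Sum.inr (Sum.inr 2))) * ψ (wV k e l) = 1 := by
        have h := ht.1 (Ideal.mem_span_singleton_self _)
        rw [RingHom.mem_ker] at h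
        simpa [sub_eq_zero] using h
      have hwl : imW ψ e l ≠ 0 := fun h0 => by
        rw [show ψ (wV k e l) = 0 from h0, mul_zero] at hl; exact zero_ne_one hl
      refine ⟨?_, by rw [eq_inv_of_mul_eq_one_left hl]; exact inv_mem (IntermediateField.subset_adjoin K _ ⟨l, rfl⟩)⟩
      have hne : imW ψ e ≠ 0 := fun h0 => hwl (congrFun h0 l)
      have hWr : rk K (crdSet l (imW ψ e)) ≤ (d i : ℕ∞) := by
        refine rk_le_of_specializes hP hδP (hd i) l _ hne hwl ((specializes_pt_iff l (η i) _ hne hwl).2 ?_)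
        intro a ha
        have h := ht.2 (Ideal.mem_map_of_mem _ ha)
        rw [RingHom.mem_ker] at h ⊢
        rw [← crdMap_imW ψ e l hl]
        exact h
      have h3 : rk K (crdSet l (imW ψ e) ∪ {imW ψ e l}) ≤ (wt d (some (i, l)) : ℕ∞) := by
        refine (rk_union_le _ _).trans ?_
        rw [wt, Nat.cast_add, Nat.cast_one]
        exact add_le_add hWr ((rk_le_encard _).trans (by simp))
      refine (rk_le_of_subset_adjoin ?_).trans h3
      rintro _ ⟨j, rfl⟩
      have : imW ψ e j = imW ψ e j / imW ψ e l * imW ψ e l := (div_mul_cancel₀ _ hwl).symm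
      rw [this]
      exact mul_mem (IntermediateField.subset_adjoin K _ (Or.inl ⟨j, rfl⟩))
        (IntermediateField.subset_adjoin K _ (Or.inr rfl))
  have h1 := rk_le_of_subset_adjoin (vars_subset_adjoin ψ e hb hW.2)
  have h2 := (rk_union_le (restG ψ) (crdSet k (imY ψ) ∪ ({ψ (bV k)} ∪ Set.range (imW ψ e)))).trans
    (add_le_add le_rfl ((rk_union_le _ _).trans (add_le_add hCy ((rk_union_le _ _).trans (add_le_add hB hW.1)))))
  have h3 := rk_restG ψ
  revert h1 h2 h3
  generalize rk K (Set.range fun x => ψ (X x)) = r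
  generalize rk K (restG ψ ∪ (crdSet k (imY ψ) ∪ ({ψ (bV k)} ∪ Set.range (imW ψ e)))) = R
  generalize rk K (restG ψ) = G
  intro h1 h2 h3
  obtain ⟨G, rfl⟩ : ∃ g : ℕ, G = g := ⟨G.toNat, (ENat.coe_toNat (ne_top_of_le_ne_top (ENat.natCast_ne_top _) (le_self_add.trans h3))).symm⟩
  have h2' : R ≤ ((G + (c + ((if e then 1 else 0) + wt d t)) : ℕ) : ℕ∞) := h2.trans (by push_cast; exact le_rfl)
  obtain ⟨R, rfl⟩ : ∃ g : ℕ, R = g := ⟨R.toNat, (ENat.coe_toNat (ne_top_of_le_ne_top (ENat.natCast_ne_top _) h2')).symm⟩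
  obtain ⟨r, rfl⟩ : ∃ g : ℕ, r = g := ⟨r.toNat, (ENat.coe_toNat (ne_top_of_le_ne_top (ENat.natCast_ne_top _) h1)).symm⟩
  norm_cast at h1 h2' h3 ⊢
  cases e <;> simp at h2' ⊢ <;> omega

include hP hδP in
/-- A general matrix moves `ξC` properly against finitely many subvarieties along a pencil. -/
theorem exists_general [Infinite K] {c : ℕ} (hc : δP ξC ≤ c) (hcN : c < N) (d : Fin m → ℕ)
    (hd : ∀ i, δP (η i) ≤ d i) :
    ∃ g : Fin (N + 1) → Fin (N + 1) → K, ∀ (Ω : Type u) [Field Ω] [Algebra K Ω] (k : Fin (N + 1))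
      (y : Fin (N + 1) → Ω) (hy : y ≠ 0), y k = 1 → ξC ⤳ pt y hy →
      (∀ b : Ω, lin g 1 b y ≠ 0) ∧ lin g 0 1 y ≠ 0 ∧
        (∀ (i : Fin m) (b : Ω) (hw : lin g 1 b y ≠ 0), b ≠ 0 → η i ⤳ pt (lin g 1 b y) hw →
          rk K (crdSet k y ∪ {b}) + (N : ℕ∞) ≤ ((c + d i + 1 : ℕ) : ℕ∞)) ∧
        ∀ (i : Fin m) (hw : lin g 0 1 y ≠ 0), η i ⤳ pt (lin g 0 1 y) hw →
          rk K (crdSet k y) + (N : ℕ∞) ≤ ((c + d i : ℕ) : ℕ∞) := by
  classical
  let D := (N + 1) * (N + 1)
  let L := Fin (N + 1) × Bool × Option (Fin m × Fin (N + 1))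
  let A : L → Type u := fun l => MvPolynomial (Var N l.1) K ⧸ inc l.1 ξC η l.2.1 l.2.2
  let G : ∀ l : L, Fin D → A l := fun l j =>
    Ideal.Quotient.mk _ (X (Sum.inl (finProdFinEquiv.symm j)))
  let lo : L → ℕ := fun l => N + (if l.2.1 then 0 else 1)
  let hi : L → ℕ := fun l => c + wt d l.2.2
  haveI : ∀ l, Algebra.FiniteType K (A l) := fun l =>
    Algebra.FiniteType.of_surjective (Ideal.Quotient.mkₐ K _) Ideal.Quotient.mk_surjective
  obtain ⟨a, ha⟩ := exists_slice (K := K) A G lo hi fun l P hP' r hr => by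
    let q : A l →ₐ[K] FractionRing (A l ⧸ P) :=
      (IsScalarTower.toAlgHom K (A l ⧸ P) _).comp (Ideal.Quotient.mkₐ K P)
    let ψ := q.comp (Ideal.Quotient.mkₐ K (inc l.1 ξC η l.2.1 l.2.2))
    have hψ : inc l.1 ξC η l.2.1 l.2.2 ≤ RingHom.ker ψ.toRingHom := fun x hx => by
      rw [RingHom.mem_ker]
      show q (Ideal.Quotient.mk _ x) = 0
      rw [Ideal.Quotient.eq_zero_iff_mem.2 hx, map_zero]
    have h1 := inc_bound ξC η hP hδP hc d hd l.2.1 l.2.2 ψ hψ
    obtain ⟨r', hr', hrk⟩ := dim_quot_ker_poly ψ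
    obtain ⟨r'', hr'', hrk'⟩ := dim_quot_ker q
    have hker : RingHom.ker q.toRingHom = P := by
      ext x
      show algebraMap (A l ⧸ P) (FractionRing (A l ⧸ P)) (Ideal.Quotient.mk P x) = 0 ↔ _
      rw [map_eq_zero_iff _ (IsFractionRing.injective _ _), Ideal.Quotient.eq_zero_iff_mem]
    have e1 : r'' = r := by
      have h2 : ringKrullDim (A l ⧸ RingHom.ker q.toRingHom) = (r : WithBot ℕ∞) :=
        (ringKrullDim_eq_of_ringEquiv (Ideal.quotEquivOfEq hker)).trans hr
      exact_mod_cast hr''.symm.trans h2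
    have e2 : rk K (Set.range q) ≤ rk K (Set.range fun x => ψ (X x)) := by
      refine rk_le_of_subset_adjoin ?_
      rintro _ ⟨x, rfl⟩
      obtain ⟨x, rfl⟩ := Ideal.Quotient.mk_surjective x
      exact range_subset_adjoin ψ ⟨x, rfl⟩
    rw [hrk', e1] at e2
    have h3 := (add_le_add_left e2 _).trans h1
    exact_mod_cast h3
  refine ⟨fun i j => a (finProdFinEquiv (i, j)), fun Ω _ _ k y hy hyk hspec => ?_⟩
  have hykne : y k ≠ 0 := by rw [hyk]; exact one_ne_zero
  set g : Fin (N + 1) → Fin (N + 1) → K := fun i j => a (finProdFinEquiv (i, j)) with hg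
  have key : ∀ (e : Bool) (t : Option (Fin m × Fin (N + 1))) (b u v : Ω), b * u = 1 →
      (e = false → b = 1) →
      (match t with
        | none => lin g (if e then 1 else 0) b y = 0 ∧ v = 0
        | some (i, l) => v * lin g (if e then 1 else 0) b y l = 1 ∧
            clIdeal l (η i) ≤ RingHom.ker (crdMap (K := K) l (lin g (if e then 1 else 0) b y)).toRingHom) →
      rk K (crdSet k y ∪ {b}) + ((N + (if e then 0 else 1) : ℕ) : ℕ∞) ≤ ((c + wt d t : ℕ) : ℕ∞) := by
    intro e t b u v hbu hb ht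
    let val : Var N k → Ω := Sum.elim (fun p => algebraMap K Ω (g p.1 p.2))
      (Sum.elim (fun j => y j.1) ![b, u, v])
    let ψ : MvPolynomial (Var N k) K →ₐ[K] Ω := aeval val
    have hY : imY ψ = y := funext fun j => by
      by_cases h : j = k
      · subst h; rw [imY_self, hyk]
      · simp [imY, yV, h, ψ, val]
    have hbv : ψ (bV k) = b := by simp [ψ, bV, val]
    have hWv : imW ψ e = lin g (if e then 1 else 0) b y := funext fun i => by
      simp only [imW, wV, map_add, map_mul, map_sum, ← algebraMap_eq, AlgHom.commutes, hbv,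
        show ∀ j, ψ (yV k j) = y j from congrFun hY, lin]
      simp [ψ, val]
    have hψ : inc k ξC η e t ≤ RingHom.ker ψ.toRingHom := by
      unfold inc
      refine sup_le (sup_le (sup_le ?_ ?_) ?_) ?_
      · refine Ideal.map_le_iff_le_comap.2 fun x hx => ?_
        have h := (specializes_pt_iff k ξC y hy hykne).1 hspec hx
        rw [Ideal.mem_comap, RingHom.mem_ker]
        rw [RingHom.mem_ker, ← hY, ← crdMap_imY ψ] at h
        exact h
      · rw [Ideal.span_singleton_le_iff_mem, RingHom.mem_ker]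
        simp [ψ, bV, val, hbu]
      · cases e
        · simp only [Bool.false_eq_true, if_false]
          rw [Ideal.span_singleton_le_iff_mem, RingHom.mem_ker]
          simp [ψ, bV, val, hb rfl]
        · simp
      · match t with
        | none =>
          refine sup_le (Ideal.span_le.2 ?_) ?_
          · rintro _ ⟨i, rfl⟩
            show imW ψ e i = 0
            rw [hWv, ht.1]; rfl
          · rw [Ideal.span_singleton_le_iff_mem, RingHom.mem_ker]
            simp [ψ, val, ht.2]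
        | some (i, l) =>
          have hv : ψ (X (Sum.inr (Sum.inr 2))) * ψ (wV k e l) = 1 := by
            rw [show ψ (wV k e l) = _ from congrFun hWv l]
            simpa [ψ, val] using ht.1
          refine sup_le ?_ (Ideal.map_le_iff_le_comap.2 fun x hx => ?_)
          · rw [Ideal.span_singleton_le_iff_mem, RingHom.mem_ker]
            show ψ (X (Sum.inr (Sum.inr 2)) * wV k e l - 1) = 0
            rw [map_sub, map_mul, hv, map_one, sub_self]
          · have h := ht.2 hx
            rw [Ideal.mem_comap, RingHom.mem_ker]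
            rw [RingHom.mem_ker, ← hWv, ← crdMap_imW ψ e l hv] at h
            exact h
    let φ : A (k, e, t) →ₐ[K] Ω := Ideal.Quotient.liftₐ _ ψ fun x hx => hψ hx
    obtain ⟨r, hr, hrk⟩ := dim_quot_ker φ
    haveI : (RingHom.ker φ.toRingHom).IsPrime := RingHom.ker_isPrime _
    have hmem : ∀ j, G (k, e, t) j - algebraMap K (A (k, e, t)) (a j) ∈ RingHom.ker φ.toRingHom := fun j => by
      rw [RingHom.mem_ker]
      show φ _ = 0
      rw [map_sub, AlgHom.commutes, sub_eq_zero]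
      show ψ (X (Sum.inl (finProdFinEquiv.symm j))) = _
      simp only [ψ, val, g, aeval_X, Sum.elim_inl, Prod.mk.eta, Equiv.apply_symm_apply]
    have h1 := ha (k, e, t) _ hmem r hr
    have h2 : rk K (crdSet k y ∪ {b}) ≤ (r : ℕ∞) := by
      rw [← hrk]
      refine rk_mono ?_
      rintro x (⟨j, rfl⟩ | rfl)
      · refine ⟨Ideal.Quotient.mk _ (yV k j), ?_⟩
        show ψ (yV k j) = y j / y k
        rw [hyk, div_one]; exact congrFun hY j
      · exact ⟨Ideal.Quotient.mk _ (bV k), hbv⟩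
    refine (add_le_add_left h2 _).trans ?_
    exact_mod_cast h1
  have hNK : ∀ (e : Bool) (b : Ω), b ≠ 0 → (e = false → b = 1) → lin g (if e then 1 else 0) b y ≠ 0 := by
    intro e b hb he h0
    have h := key e none b b⁻¹ 0 (mul_inv_cancel₀ hb) he ⟨h0, rfl⟩
    rw [wt, add_zero] at h
    have : ((N + if e then 0 else 1 : ℕ) : ℕ∞) ≤ (c : ℕ∞) := le_trans le_add_self h
    norm_cast at this
    omega
  refine ⟨fun b => ?_, hNK false 1 one_ne_zero fun _ => rfl, fun i b hw hb hs => ?_, fun i hw hs => ?_⟩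
  · by_cases hb : b = 0
    · subst hb
      intro h
      refine hy (funext fun i => ?_)
      simpa [lin] using congrFun h i
    · exact hNK true b hb (by simp)
  · obtain ⟨l, hl⟩ := Function.ne_iff.1 hw
    have h := key true (some (i, l)) b b⁻¹ (lin g 1 b y l)⁻¹ (mul_inv_cancel₀ hb) (by simp)
      ⟨inv_mul_cancel₀ hl, (specializes_pt_iff l (η i) _ hw hl).1 hs⟩
    simpa [wt, add_assoc] using h
  · obtain ⟨l, hl⟩ := Function.ne_iff.1 hw
    have h := key false (some (i, l)) 1 1 (lin g 0 1 y l)⁻¹ (one_mul 1) (fun _ => rfl)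
      ⟨inv_mul_cancel₀ hl, (specializes_pt_iff l (η i) _ hw hl).1 hs⟩
    have h' := (add_le_add_left (rk_mono (K := K) (Set.subset_union_left (t := ({1} : Set Ω)))) _).trans h
    simp only [wt, Bool.false_eq_true, if_false] at h'
    push_cast at h' ⊢
    rw [← add_assoc, ← add_assoc] at h'
    exact (ENat.add_le_add_iff_right ENat.one_ne_top).1 h'

end Groth.L22.Moving
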