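import Groth.Agent.L22.Moving.Rank
import Groth.Agent.L18.ProjSpace
import Groth.Agent.L16.ProjSpace.Charts
import Groth.Agent.L22.Bundle.Immersion
import Groth.Agent.S1919
import Groth.Prelude.Def_Cyc

/-!
Points of projective space given by coordinates in a field.
-/

set_option autoImplicit false
set_option linter.style.haveILetI false
set_option backward.isDefEq.respectTransparency false

universe u

open AlgebraicGeometry CategoryTheory MvPolynomial Groth.L16.ProjSpace

noncomputable section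

namespace Groth.L22.Moving

variable {K : Type u} [Field K] {N : ℕ}

/-- Membership of a form in a point. -/
abbrev InD (z : ↥(CohB1.ProjSpace N K)) (f : MvPolynomial (Fin (N + 1)) K) : Prop :=
  z ∈ Proj.basicOpen (CohB1.polyGrading N K) f

theorem inD_iff {z : ↥(CohB1.ProjSpace N K)} {f : MvPolynomial (Fin (N + 1)) K} :
    InD z f ↔ f ∉ (ProjectiveSpectrum.asHomogeneousIdeal (z : ProjectiveSpectrum (CohB1.polyGrading N K))).toIdeal :=
  Proj.mem_basicOpen _ _ _

/-- A specialization is tested on forms of positive degree. -/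
theorem specializes_of_forms {x z : ↥(CohB1.ProjSpace N K)}
    (h : ∀ (d : ℕ) (f : MvPolynomial (Fin (N + 1)) K), f.IsHomogeneous d → 0 < d → InD z f → InD x f) :
    x ⤳ z := by
  let x' : ProjectiveSpectrum (CohB1.polyGrading N K) := x
  let z' : ProjectiveSpectrum (CohB1.polyGrading N K) := z
  refine specializes_iff_mem_closure.2 ((ProjectiveSpectrum.le_iff_mem_closure _ x' z').1 ?_)
  rw [← ProjectiveSpectrum.as_ideal_le_as_ideal]
  intro p hp
  show p ∈ z'.asHomogeneousIdeal.toIdeal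
  rw [z'.asHomogeneousIdeal.isHomogeneous.mem_iff]
  intro d
  have hd : ((DirectSum.decompose (CohB1.polyGrading N K) p d : CohB1.polyGrading N K d) :
      MvPolynomial (Fin (N + 1)) K).IsHomogeneous d :=
    (mem_homogeneousSubmodule _ _).1 (DirectSum.decompose (CohB1.polyGrading N K) p d).2
  have hx : ((DirectSum.decompose (CohB1.polyGrading N K) p d : CohB1.polyGrading N K d) :
      MvPolynomial (Fin (N + 1)) K) ∈ x'.asHomogeneousIdeal.toIdeal :=
    x'.asHomogeneousIdeal.isHomogeneous d hp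
  rcases Nat.eq_zero_or_pos d with rfl | hd'
  · have h0 := Eq.symm (homogeneousComponent_of_mem (n := 0) (m := 0) ((mem_homogeneousSubmodule _ _).2 hd))
    rw [if_pos rfl, homogeneousComponent_zero] at h0
    rw [h0] at hx ⊢
    by_cases hc : coeff 0 ((DirectSum.decompose (CohB1.polyGrading N K) p 0 : CohB1.polyGrading N K 0) :
      MvPolynomial (Fin (N + 1)) K) = 0
    · rw [hc, map_zero]; exact Ideal.zero_mem _
    · exact absurd (Ideal.eq_top_of_isUnit_mem _ hx ((isUnit_iff_ne_zero.2 hc).map _)) x'.isPrime.ne_top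
  · by_contra hz
    exact inD_iff.1 (h d _ hd hd' (inD_iff.2 hz)) hx

theorem eq_of_forms {x z : ↥(CohB1.ProjSpace N K)}
    (h : ∀ (d : ℕ) (f : MvPolynomial (Fin (N + 1)) K), f.IsHomogeneous d → 0 < d → (InD x f ↔ InD z f)) :
    x = z :=
  ((specializes_of_forms fun d f hf hd => (h d f hf hd).2).antisymm
    (specializes_of_forms fun d f hf hd => (h d f hf hd).1)).eq

variable {Ω : Type u} [Field Ω] [Algebra K Ω]

/-- The point with homogeneous coordinates `y`. -/
def pt (y : Fin (N + 1) → Ω) (hy : y ≠ 0) : ↥(CohB1.ProjSpace N K) :=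
  (Groth.L18.PS.tuplePt (B := CommRingCat.of Ω) (algebraMap K Ω) y (Function.ne_iff.1 hy).choose
    (isUnit_iff_ne_zero.2 (Function.ne_iff.1 hy).choose_spec)) (IsLocalRing.closedPoint Ω)

theorem pt_mem_iff (y : Fin (N + 1) → Ω) (hy : y ≠ 0) {d : ℕ} {f : MvPolynomial (Fin (N + 1)) K}
    (hf : f.IsHomogeneous d) (hd : 0 < d) : InD (pt y hy) f ↔ aeval y f ≠ 0 := by
  show IsLocalRing.closedPoint Ω ∈ Groth.L18.PS.tuplePt (B := CommRingCat.of Ω) (algebraMap K Ω) y
    (Function.ne_iff.1 hy).choose (isUnit_iff_ne_zero.2 (Function.ne_iff.1 hy).choose_spec) ⁻¹ᵁ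
      Proj.basicOpen (CohB1.polyGrading N K) f ↔ _
  rw [Groth.L18.PS.tuplePt_preimage_basicOpen (B := CommRingCat.of Ω) (algebraMap K Ω) y _ _ f hf hd]
  show eval₂Hom (algebraMap K Ω) y f ∉ IsLocalRing.maximalIdeal Ω ↔ _
  rw [IsLocalRing.maximalIdeal_eq_bot, Ideal.mem_bot]
  rfl

theorem pt_congr {y y' : Fin (N + 1) → Ω} (hy : y ≠ 0) (hy' : y' ≠ 0) (h : y = y') : pt (K := K) y hy = pt y' hy' := by
  subst h; rfl

theorem pt_scale {y y' : Fin (N + 1) → Ω} (hy : y ≠ 0) (hy' : y' ≠ 0) {c : Ω} (hc : c ≠ 0)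
    (h : ∀ j, y' j = c * y j) : pt (K := K) y' hy' = pt y hy := by
  refine eq_of_forms fun d f hf hd => ?_
  rw [pt_mem_iff y hy hf hd, pt_mem_iff y' hy' hf hd, show y' = fun j => c * y j from funext h]
  show eval₂Hom (algebraMap K Ω) (fun j => c * y j) f ≠ 0 ↔ eval₂Hom (algebraMap K Ω) y f ≠ 0
  rw [Groth.L18.PS.eval_smul _ _ _ hf, mul_ne_zero_iff, and_iff_right (pow_ne_zero _ hc)]

theorem pt_map {Ω' : Type u} [Field Ω'] [Algebra K Ω'] (φ : Ω →ₐ[K] Ω') (y : Fin (N + 1) → Ω) (hy : y ≠ 0)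
    (hy' : (fun j => φ (y j)) ≠ 0) : pt (K := K) (fun j => φ (y j)) hy' = pt y hy := by
  refine eq_of_forms fun d f hf hd => ?_
  rw [pt_mem_iff y hy hf hd, pt_mem_iff _ hy' hf hd, ← MvPolynomial.comp_aeval_apply, ne_eq,
    map_eq_zero]

/-- Coordinates in a valuation ring specialize to their residues. -/
theorem pt_specializes {O : Type u} [CommRing O] [Algebra K O] {Ω' : Type u} [Field Ω'] [Algebra K Ω']
    (i : O →ₐ[K] Ω) (r : O →ₐ[K] Ω') (hi : Function.Injective i) (y : Fin (N + 1) → O)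
    (h₁ : (fun j => i (y j)) ≠ 0) (h₂ : (fun j => r (y j)) ≠ 0) :
    pt (K := K) (fun j => i (y j)) h₁ ⤳ pt (fun j => r (y j)) h₂ := by
  refine specializes_of_forms fun d f hf hd h => ?_
  rw [pt_mem_iff _ h₁ hf hd, ← MvPolynomial.comp_aeval_apply, ne_eq, map_eq_zero_iff _ hi]
  rw [pt_mem_iff _ h₂ hf hd, ← MvPolynomial.comp_aeval_apply] at h
  intro h0
  exact h (by rw [h0, map_zero])

/-- The chart in terms of coordinates. -/
theorem chart_eq_tuplePt {K : Type u} [CommRing K] {N : ℕ} (k : Fin (N + 1)) :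
    chart N K k = Groth.L18.PS.tuplePt (B := CommRingCat.of (MvPolynomial (ChartVar N k) K)) C
      (fun j => dehom N K k (X j)) k (by rw [dehom_X_self]; exact isUnit_one) := by
  rw [chart, Groth.L18.PS.tuplePt]
  show _ ≫ Proj.awayι _ _ _ _ = _ ≫ Proj.awayι _ _ _ _
  congr 2
  refine CommRingCat.hom_ext (Groth.L18.PS.chart_ringHom_ext k ?_ fun j => ?_)
  · rw [CommRingCat.hom_ofHom, CommRingCat.hom_ofHom, Groth.L18.PS.chartHom_comp_scalar]
    refine RingHom.ext fun a => ?_
    show (awayEquiv N K k).symm _ = C a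
    rw [RingEquiv.symm_apply_eq]
    exact (toAway_C N K k a).symm
  · rw [CommRingCat.hom_ofHom, CommRingCat.hom_ofHom]
    refine Eq.trans ?_ (mul_one _)
    refine Eq.trans ?_ (congrArg _ (dehom_X_self N K k))
    rw [Groth.L18.PS.chartHom_coord]
    show (awayEquiv N K k).symm (Groth.L18.PS.coord k j) = _
    rw [RingEquiv.symm_apply_eq]
    show _ = toAway N K k (dehom N K k (X j))
    refine HomogeneousLocalization.val_injective _ ?_
    rw [Groth.L18.PS.coord, HomogeneousLocalization.Away.val_mk]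
    have hu : IsUnit (ι N K k (X k ^ 1)) := by
      rw [map_pow]; exact (IsLocalization.Away.algebraMap_isUnit _).pow 1
    apply hu.mul_right_cancel
    rw [toAway_dehom_mul N K k (X_mem N K j), Localization.mk_eq_mk']
    exact IsLocalization.mk'_spec _ _ _

theorem dehom_apply (k : Fin (N + 1)) (f : MvPolynomial (Fin (N + 1)) K) :
    dehom N K k f = eval₂Hom C (fun j => dehom N K k (X j)) f :=
  DFunLike.congr_fun (MvPolynomial.ringHom_ext (f := (dehom N K k).toRingHom)
    (g := eval₂Hom C (fun j => dehom N K k (X j))) (fun a => by simp [dehom]) (fun j => by simp)) f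

theorem chart_mem_iff (k : Fin (N + 1)) (p : ↥(Spec (CommRingCat.of (MvPolynomial (ChartVar N k) K)))) {d : ℕ}
    {f : MvPolynomial (Fin (N + 1)) K} (hf : f.IsHomogeneous d) (hd : 0 < d) :
    InD (chart N K k p) f ↔ dehom N K k f ∉ p.asIdeal := by
  show p ∈ chart N K k ⁻¹ᵁ Proj.basicOpen (CohB1.polyGrading N K) f ↔ _
  rw [chart_eq_tuplePt, Groth.L18.PS.tuplePt_preimage_basicOpen _ _ _ _ f hf hd, dehom_apply]
  rfl

/-- Normalised coordinates on a chart. -/
abbrev crdMap (k : Fin (N + 1)) (y : Fin (N + 1) → Ω) : MvPolynomial (ChartVar N k) K →ₐ[K] Ω :=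
  aeval fun j => y j.1 / y k

theorem crdMap_dehom_X (k : Fin (N + 1)) (y : Fin (N + 1) → Ω) (hk : y k ≠ 0) (j : Fin (N + 1)) :
    crdMap (K := K) k y (dehom N K k (X j)) = y j / y k := by
  by_cases h : j = k
  · subst h; rw [dehom_X_self, map_one, div_self hk]
  · rw [dehom_X_ne N K k ⟨j, h⟩, crdMap, aeval_X]

theorem crdMap_dehom (k : Fin (N + 1)) (y : Fin (N + 1) → Ω) (hk : y k ≠ 0) (f : MvPolynomial (Fin (N + 1)) K) :
    crdMap (K := K) k y (dehom N K k f) = aeval (fun j => y j / y k) f := by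
  have h : (crdMap (K := K) k y).comp (dehom N K k) = aeval fun j => y j / y k :=
    algHom_ext fun j => by rw [AlgHom.comp_apply, aeval_X, crdMap_dehom_X k y hk]
  rw [← h]; rfl

theorem pt_eq_chart (k : Fin (N + 1)) (y : Fin (N + 1) → Ω) (hy : y ≠ 0) (hk : y k ≠ 0) :
    pt (K := K) y hy = chart N K k (⟨RingHom.ker (crdMap (K := K) k y).toRingHom, RingHom.ker_isPrime _⟩ :
      PrimeSpectrum (MvPolynomial (ChartVar N k) K)) := by
  refine eq_of_forms fun d f hf hd => ?_
  rw [pt_mem_iff y hy hf hd, chart_mem_iff k _ hf hd]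
  show _ ↔ ¬ crdMap (K := K) k y (dehom N K k f) = 0
  rw [crdMap_dehom k y hk]
  show _ ↔ ¬ eval₂Hom (algebraMap K Ω) (fun j => y j / y k) f = 0
  rw [show (fun j => y j / y k) = fun j => (y k)⁻¹ * y j from funext fun j => div_eq_inv_mul _ _,
    Groth.L18.PS.eval_smul _ _ _ hf, mul_eq_zero, or_iff_right (pow_ne_zero _ (inv_ne_zero hk))]
  rfl

/-- Every point of a chart has coordinates in its residue domain. -/
theorem exists_pt (z : ↥(CohB1.ProjSpace N K)) :
    ∃ (Ω : Type u) (_ : Field Ω) (_ : Algebra K Ω) (y : Fin (N + 1) → Ω) (hy : y ≠ 0), pt y hy = z := by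
  obtain ⟨k, hk⟩ := exists_mem_basicOpen_X N K z
  rw [← opensRange_chart] at hk
  obtain ⟨p, hp⟩ := hk
  let R := MvPolynomial (ChartVar N k) K
  let q : R →ₐ[K] FractionRing (R ⧸ p.asIdeal) :=
    (IsScalarTower.toAlgHom K (R ⧸ p.asIdeal) _).comp (Ideal.Quotient.mkₐ K p.asIdeal)
  have hker : RingHom.ker q.toRingHom = p.asIdeal := by
    ext a
    show algebraMap (R ⧸ p.asIdeal) (FractionRing (R ⧸ p.asIdeal)) (Ideal.Quotient.mk _ a) = 0 ↔ _
    rw [map_eq_zero_iff _ (IsFractionRing.injective _ _), Ideal.Quotient.eq_zero_iff_mem]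
  let y : Fin (N + 1) → FractionRing (R ⧸ p.asIdeal) := fun j => q (dehom N K k (X j))
  have hyk : y k = 1 := by simp only [y, dehom_X_self, map_one]
  have hy : y ≠ 0 := fun e => one_ne_zero (hyk.symm.trans (congrFun e k))
  refine ⟨_, inferInstance, inferInstance, y, hy, ?_⟩
  rw [← hp, pt_eq_chart k y hy (by rw [hyk]; exact one_ne_zero)]
  refine congrArg (chart N K k) (PrimeSpectrum.ext (Eq.trans ?_ hker))
  show RingHom.ker _ = RingHom.ker _
  congr 1
  refine congrArg AlgHom.toRingHom (algHom_ext fun j => ?_)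
  rw [crdMap, aeval_X, hyk, div_one]
  exact congrArg q (dehom_X_ne N K k j)

/-- Normalised coordinates as a set. -/
def crdSet (k : Fin (N + 1)) (y : Fin (N + 1) → Ω) : Set Ω := Set.range fun j => y j / y k

theorem rk_crdSet (k : Fin (N + 1)) (y : Fin (N + 1) → Ω) (hk : y k ≠ 0) :
    rk K (crdSet k y) = rk K (Set.range fun j : ChartVar N k => crdMap (K := K) k y (X j)) := by
  refine le_antisymm (rk_le_of_subset_adjoin ?_) (rk_mono ?_)
  · rintro _ ⟨j, rfl⟩
    by_cases h : j = k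
    · subst h
      show y j / y j ∈ IntermediateField.adjoin K _
      rw [div_self hk]; exact one_mem _
    · exact IntermediateField.subset_adjoin K _ ⟨⟨j, h⟩, by simp [crdMap]⟩
  · rintro _ ⟨j, rfl⟩
    exact ⟨j.1, by simp [crdMap]⟩

/-- The dimension of the closure of a prime. -/
theorem dim_closure_prime {R : Type u} [CommRing R] (p : PrimeSpectrum R) :
    topologicalKrullDim (closure ({p} : Set (PrimeSpectrum R))) = ringKrullDim (R ⧸ p.asIdeal) := by
  rw [← PrimeSpectrum.zeroLocus_vanishingIdeal_eq_closure, PrimeSpectrum.vanishingIdeal_singleton]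
  exact ((PrimeSpectrum.isClosedEmbedding_comap_of_surjective _ _ Ideal.Quotient.mk_surjective).isEmbedding.toHomeomorph.trans
    (Homeomorph.setCongr (by rw [range_comap_of_surjective _ _ Ideal.Quotient.mk_surjective, Ideal.mk_ker]))).isHomeomorph.topologicalKrullDim_eq.symm.trans
    (PrimeSpectrum.topologicalKrullDim_eq_ringKrullDim _)

variable {δP : ↥(CohB1.ProjSpace N K) → ℤ} (hδP : Cyc.DeltaCompat (CohB1.ProjSpace.toSpec N K) δP (fun _ => 0))

include hδP in
theorem delta_pt (k : Fin (N + 1)) (y : Fin (N + 1) → Ω) (hy : y ≠ 0) (hk : y k ≠ 0) :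
    ∃ d : ℕ, δP (pt y hy) = d ∧ rk K (crdSet k y) = d := by
  obtain ⟨d, hd, hrk⟩ := dim_quot_ker_poly (crdMap (K := K) k y)
  refine ⟨d, ?_, (rk_crdSet k y hk).trans hrk⟩
  have h1 := Groth.L22.Bundle.deltaCompat_comp (chart N K k) _ hδP
  rw [chart_toSpec] at h1
  haveI : LocallyOfFiniteType (Spec.map (CommRingCat.ofHom (C : K →+* MvPolynomial (ChartVar N k) K))) := by
    rw [HasRingHomProperty.Spec_iff (P := @LocallyOfFiniteType)]
    exact RingHom.finiteType_algebraMap.2 (inferInstance : Algebra.FiniteType K (MvPolynomial (ChartVar N k) K))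
  obtain ⟨n, hn, hδn⟩ := Groth.Agent.S1919.delta_eq_dim K _ _ _ h1
    (⟨RingHom.ker (crdMap (K := K) k y).toRingHom, RingHom.ker_isPrime _⟩ : PrimeSpectrum (MvPolynomial (ChartVar N k) K))
  rw [pt_eq_chart k y hy hk]
  refine hδn.trans ?_
  have h2 := (dim_closure_prime (⟨RingHom.ker (crdMap (K := K) k y).toRingHom, RingHom.ker_isPrime _⟩ :
    PrimeSpectrum (MvPolynomial (ChartVar N k) K))).trans hd
  have h3 : (n : WithBot ℕ∞) = (d : WithBot ℕ∞) := hn.symm.trans h2
  exact_mod_cast h3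

end Groth.L22.Moving
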