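import Groth.Agent.L22.AffineDim
import Mathlib.RingTheory.AlgebraicIndependent.TranscendenceBasis
import Mathlib.Combinatorics.Matroid.Rank.ENat
import Mathlib.FieldTheory.IntermediateField.Adjoin.Basic

/-!
Transcendence ranks of subsets of a field, and dimensions of images of affine algebras.
-/

set_option autoImplicit false
set_option linter.style.haveILetI false

universe u v w

open scoped Cardinal

noncomputable section

namespace Groth.L22.Moving

variable (K : Type u) [Field K] {Ω : Type u} [Field Ω] [Algebra K Ω]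

/-- The transcendence degree over `K` of the subfield generated by `S`. -/
def rk (S : Set Ω) : ℕ∞ := (AlgebraicIndependent.matroid K Ω).eRk S

/-- The elements algebraic over `K(S)`. -/
def cl (S : Set Ω) : Set Ω := (AlgebraicIndependent.matroid K Ω).closure S

variable {K}

theorem rk_mono {S T : Set Ω} (h : S ⊆ T) : rk K S ≤ rk K T :=
  (AlgebraicIndependent.matroid K Ω).eRk_mono h

theorem rk_union_le (S T : Set Ω) : rk K (S ∪ T) ≤ rk K S + rk K T :=
  (AlgebraicIndependent.matroid K Ω).eRk_union_le_eRk_add_eRk S T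

theorem rk_le_encard (S : Set Ω) : rk K S ≤ S.encard :=
  (AlgebraicIndependent.matroid K Ω).eRk_le_encard S

theorem rk_le_card {ι : Type w} [Fintype ι] (v : ι → Ω) : rk K (Set.range v) ≤ (Fintype.card ι : ℕ∞) := by
  classical
  refine (rk_le_encard _).trans ?_
  rw [← Set.image_univ]
  refine (Set.encard_image_le _ _).trans ?_
  simp

theorem rk_le_of_subset_cl {S T : Set Ω} (h : T ⊆ cl K S) : rk K T ≤ rk K S :=
  (rk_mono h).trans_eq ((AlgebraicIndependent.matroid K Ω).eRk_closure_eq S)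

theorem mem_cl_iff {S : Set Ω} {x : Ω} : x ∈ cl K S ↔ IsAlgebraic (Algebra.adjoin K S) x := by
  rw [cl, AlgebraicIndependent.matroid_closure_eq]
  exact Subalgebra.mem_algebraicClosure _ _

theorem adjoin_subset_cl (S : Set Ω) : (IntermediateField.adjoin K S : Set Ω) ⊆ cl K S := by
  let A := Subalgebra.algebraicClosure (Algebra.adjoin K S) Ω
  let F : IntermediateField K Ω :=
    { A.restrictScalars K with
      inv_mem' := fun x hx => IsAlgebraic.inv hx }
  have h : IntermediateField.adjoin K S ≤ F := IntermediateField.adjoin_le_iff.2 fun x hx =>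
    show IsAlgebraic (Algebra.adjoin K S) x from
      isAlgebraic_algebraMap (⟨x, Algebra.subset_adjoin hx⟩ : Algebra.adjoin K S)
  exact fun x hx => mem_cl_iff.2 (h hx)

theorem rk_le_of_subset_adjoin {S T : Set Ω} (h : T ⊆ IntermediateField.adjoin K S) : rk K T ≤ rk K S :=
  rk_le_of_subset_cl (h.trans (adjoin_subset_cl S))

theorem rk_eq_of_adjoin {S T : Set Ω} (h₁ : T ⊆ IntermediateField.adjoin K S) (h₂ : S ⊆ IntermediateField.adjoin K T) :
    rk K S = rk K T :=
  le_antisymm (rk_le_of_subset_adjoin h₂) (rk_le_of_subset_adjoin h₁)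

theorem rk_image {Ω' : Type u} [Field Ω'] [Algebra K Ω'] (f : Ω →ₐ[K] Ω') (S : Set Ω) :
    rk K (f '' S) = rk K S := by
  refine le_antisymm ?_ ?_
  · refine Matroid.eRk_le_iff.2 fun I hI hind => ?_
    have hI' : I = f '' (S ∩ f ⁻¹' I) := by
      rw [Set.image_inter_preimage, Set.inter_eq_right.2 hI]
    have h1 : AlgebraicIndepOn K id (S ∩ f ⁻¹' I) := by
      have h2 : AlgebraicIndepOn K id (f '' (S ∩ f ⁻¹' I)) := hI' ▸ hind
      have h3 := h2.comp (fun x : ↥(S ∩ f ⁻¹' I) => (⟨f x, Set.mem_image_of_mem f x.2⟩ : ↥(f '' (S ∩ f ⁻¹' I))))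
        (fun a b hab => Subtype.ext (f.injective (congrArg Subtype.val hab)))
      exact (f.algebraicIndependent_iff f.injective).1 h3
    rw [hI', (show Function.Injective f from f.injective).injOn.encard_image]
    exact Matroid.Indep.encard_le_eRk_of_subset h1 Set.inter_subset_left
  · refine Matroid.eRk_le_iff.2 fun I hI hind => ?_
    have h2 : AlgebraicIndependent K (fun x : I => f x) :=
      (f.algebraicIndependent_iff f.injective).2 hind
    have h3 : AlgebraicIndepOn K id (f '' I) := by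
      have := h2.to_subtype_range' (t := f '' I) (by rw [Set.image_eq_range])
      exact this
    rw [← Set.InjOn.encard_image (show Function.Injective f from f.injective).injOn (s := I)]
    exact Matroid.Indep.encard_le_eRk_of_subset h3 (Set.image_mono hI)

variable {R : Type v} [CommRing R] [Algebra K R]

/-- The dimension of the image of an affine algebra in a field. -/
theorem dim_quot_ker {R : Type u} [CommRing R] [Algebra K R] [Algebra.FiniteType K R] (φ : R →ₐ[K] Ω) :
    ∃ d : ℕ, ringKrullDim (R ⧸ RingHom.ker φ.toRingHom) = (d : WithBot ℕ∞) ∧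
      rk K (Set.range φ) = d := by
  haveI : (RingHom.ker φ.toRingHom).IsPrime := RingHom.ker_isPrime _
  obtain ⟨d, -, -, -, hd, htr⟩ := AffineDim.exists_normalization K (R ⧸ RingHom.ker φ.toRingHom)
  refine ⟨d, hd, ?_⟩
  let ψ : (R ⧸ RingHom.ker φ.toRingHom) →ₐ[K] Ω := Ideal.Quotient.liftₐ _ φ fun a ha => ha
  have hψ : Function.Injective ψ := RingHom.lift_injective_of_ker_le_ideal _ _ le_rfl
  have hr : Set.range φ = Set.range ψ := by
    ext x
    exact ⟨fun ⟨a, e⟩ => ⟨Ideal.Quotient.mk _ a, e⟩, fun ⟨a, e⟩ => by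
      obtain ⟨a, rfl⟩ := Ideal.Quotient.mk_surjective a; exact ⟨a, e⟩⟩
  obtain ⟨B, hB⟩ := exists_isTranscendenceBasis K (R ⧸ RingHom.ker φ.toRingHom)
  have hcard : B.encard = (d : ℕ∞) := by
    have h1 : Cardinal.mk B = d := hB.cardinalMk_eq_trdeg.trans htr
    show Cardinal.toENat (Cardinal.mk B) = d
    rw [h1, map_natCast]
  have hind : AlgebraicIndepOn K id (ψ '' B) := by
    have h2 : AlgebraicIndependent K (fun x : B => ψ x) := (ψ.algebraicIndependent_iff hψ).2 hB.1
    exact h2.to_subtype_range' (by rw [Set.image_eq_range])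
  rw [hr]
  refine le_antisymm ?_ ?_
  · rw [← hcard, ← Set.InjOn.encard_image hψ.injOn (s := B), ← Matroid.Indep.eRk_eq_encard (M := AlgebraicIndependent.matroid K Ω) hind]
    refine rk_le_of_subset_cl ?_
    rintro _ ⟨a, rfl⟩
    rw [mem_cl_iff]
    have hal : IsAlgebraic (Algebra.adjoin K (Set.range (Subtype.val : B → _))) a := hB.isAlgebraic.1 a
    rw [Subtype.range_val] at hal
    obtain ⟨p, hp0, hp⟩ := hal
    let g : Algebra.adjoin K B →+* Algebra.adjoin K (ψ '' B) :=
      (ψ.toRingHom.comp (Algebra.adjoin K B).val.toRingHom).codRestrict (Algebra.adjoin K (ψ '' B)) fun z => by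
        rw [Algebra.adjoin_image]
        exact ⟨z.1, z.2, rfl⟩
    refine ⟨p.map g, (Polynomial.map_ne_zero_iff fun a b e => Subtype.ext (hψ (congrArg Subtype.val e))).2 hp0, ?_⟩
    rw [Polynomial.aeval_def, Polynomial.eval₂_map]
    have h := congrArg ψ hp
    rw [Polynomial.aeval_def, map_zero] at h
    rw [← h]
    exact (Polynomial.hom_eval₂ p _ ψ.toRingHom a).symm
  · rw [← hcard, ← Set.InjOn.encard_image hψ.injOn (s := B)]
    exact Matroid.Indep.encard_le_eRk_of_subset hind (Set.image_subset_range ψ B)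

theorem range_subset_adjoin {ι : Type w} (φ : MvPolynomial ι K →ₐ[K] Ω) :
    Set.range φ ⊆ IntermediateField.adjoin K (Set.range fun i => φ (MvPolynomial.X i)) := by
  rintro _ ⟨p, rfl⟩
  induction p using MvPolynomial.induction_on with
  | C a =>
    rw [← MvPolynomial.algebraMap_eq, φ.commutes]
    exact (IntermediateField.adjoin K _).algebraMap_mem a
  | add p q hp hq => rw [map_add]; exact add_mem hp hq
  | mul_X p i hp => rw [map_mul]; exact mul_mem hp (IntermediateField.subset_adjoin K _ ⟨i, rfl⟩)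

theorem dim_quot_ker_poly {ι : Type} [Finite ι] (φ : MvPolynomial ι K →ₐ[K] Ω) :
    ∃ d : ℕ, ringKrullDim (MvPolynomial ι K ⧸ RingHom.ker φ.toRingHom) = (d : WithBot ℕ∞) ∧
      rk K (Set.range fun i => φ (MvPolynomial.X i)) = d := by
  obtain ⟨d, h1, h2⟩ := dim_quot_ker φ
  refine ⟨d, h1, ?_⟩
  rw [← h2]
  refine le_antisymm (rk_mono ?_) (rk_le_of_subset_adjoin (range_subset_adjoin φ))
  rintro _ ⟨i, rfl⟩
  exact ⟨_, rfl⟩

theorem dim_quot_lt {A : Type u} [CommRing A] [Algebra K A] [Algebra.FiniteType K A] {P Q : Ideal A}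
    [P.IsPrime] [Q.IsPrime] (h : P < Q) {p q : ℕ} (hp : ringKrullDim (A ⧸ P) = (p : WithBot ℕ∞))
    (hq : ringKrullDim (A ⧸ Q) = (q : WithBot ℕ∞)) : q + 1 ≤ p := by
  haveI : (Q.map (Ideal.Quotient.mk P)).IsPrime :=
    Ideal.map_isPrime_of_surjective Ideal.Quotient.mk_surjective (by rw [Ideal.mk_ker]; exact h.le)
  obtain ⟨ht, e, d, hht, he, hd, hde⟩ := AffineDim.dim_formula K (A ⧸ P) (Q.map (Ideal.Quotient.mk P))
  rw [ringKrullDim_eq_of_ringEquiv (DoubleQuot.quotQuotEquivQuotOfLE h.le), hq] at he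
  rw [hp] at hd
  have hpos : ht ≠ 0 := by
    intro h0
    rw [h0, Nat.cast_zero, Ideal.height_eq_zero_iff_eq_bot] at hht
    have := congrArg (Ideal.comap (Ideal.Quotient.mk P)) hht
    rw [Ideal.comap_map_of_surjective _ Ideal.Quotient.mk_surjective, ← RingHom.ker_eq_comap_bot,
      Ideal.mk_ker, sup_eq_left.2 h.le] at this
    exact h.ne this.symm
  have e1 : q = e := by exact_mod_cast he
  have e2 : p = d := by exact_mod_cast hd
  omega

theorem exists_dim_quot {A : Type u} [CommRing A] [Algebra K A] [Algebra.FiniteType K A] (P : Ideal A) [P.IsPrime] :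
    ∃ d : ℕ, ringKrullDim (A ⧸ P) = (d : WithBot ℕ∞) := by
  obtain ⟨d, -, -, -, hd, -⟩ := AffineDim.exists_normalization K (A ⧸ P)
  exact ⟨d, hd⟩

/-- Slicing: general values of `D` functions cut the dimension of every prime by `D`. -/
theorem exists_slice [Infinite K] {L : Type w} [Finite L] (A : L → Type u) [∀ l, CommRing (A l)]
    [∀ l, Algebra K (A l)] [∀ l, Algebra.FiniteType K (A l)] {D : ℕ} (G : ∀ l, Fin D → A l)
    (lo hi : L → ℕ) (h : ∀ l (P : Ideal (A l)) [P.IsPrime] (r : ℕ),
      ringKrullDim (A l ⧸ P) = (r : WithBot ℕ∞) → r + lo l ≤ D + hi l) :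
    ∃ a : Fin D → K, ∀ l (P : Ideal (A l)) [P.IsPrime], (∀ j, G l j - algebraMap K (A l) (a j) ∈ P) →
      ∀ r : ℕ, ringKrullDim (A l ⧸ P) = (r : WithBot ℕ∞) → r + lo l ≤ hi l := by
  classical
  suffices key : ∀ j ≤ D, ∃ a : Fin D → K, ∀ l (P : Ideal (A l)) [P.IsPrime],
      (∀ i : Fin D, (i : ℕ) < j → G l i - algebraMap K (A l) (a i) ∈ P) →
      ∀ r : ℕ, ringKrullDim (A l ⧸ P) = (r : WithBot ℕ∞) → r + j + lo l ≤ D + hi l by
    obtain ⟨a, ha⟩ := key D le_rfl
    exact ⟨a, fun l P _ hP r hr => by have := ha l P (fun i _ => hP i) r hr; omega⟩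
  intro j
  induction j with
  | zero => exact fun _ => ⟨fun _ => 0, fun l P _ _ r hr => by simpa using h l P r hr⟩
  | succ j ih =>
    intro hj
    obtain ⟨a, ha⟩ := ih (by omega)
    let J : ∀ l, Ideal (A l) := fun l =>
      Ideal.span {x | ∃ i : Fin D, (i : ℕ) < j ∧ x = G l i - algebraMap K (A l) (a i)}
    haveI : ∀ l, IsNoetherianRing (A l) := fun l => Algebra.FiniteType.isNoetherianRing K (A l)
    let Bad : Set K := ⋃ l, ⋃ P ∈ (J l).minimalPrimes,
      {x : K | G l ⟨j, by omega⟩ - algebraMap K (A l) x ∈ P}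
    have hfin : Bad.Finite := Set.finite_iUnion fun l =>
      (Ideal.finite_minimalPrimes_of_isNoetherianRing _ (J l)).biUnion fun P hP => by
        refine Set.Subsingleton.finite fun x hx y hy => ?_
        haveI := hP.1.1
        by_contra hne
        have hu : IsUnit (algebraMap K (A l) (x - y)) := (isUnit_iff_ne_zero.2 (sub_ne_zero.2 hne)).map _
        refine hP.1.1.ne_top (P.eq_top_of_isUnit_mem ?_ hu)
        have h1 := P.sub_mem hy hx
        rwa [sub_sub_sub_cancel_left, ← map_sub] at h1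
    obtain ⟨c, hc⟩ := hfin.exists_notMem
    refine ⟨Function.update a ⟨j, by omega⟩ c, fun l P _ hP r hr => ?_⟩
    have hJ : J l ≤ P := Ideal.span_le.2 (by
      rintro _ ⟨i, hi', rfl⟩
      have h1 := hP i (by omega)
      rwa [Function.update_of_ne (Fin.ne_of_val_ne (by simpa using hi'.ne))] at h1)
    obtain ⟨P0, hP0, hle⟩ := Ideal.exists_minimalPrimes_le hJ
    haveI := hP0.1.1
    obtain ⟨p, hp⟩ := exists_dim_quot (K := K) P0
    have h0 := ha l P0 (fun i hi' => hP0.1.2 (Ideal.subset_span ⟨i, hi', rfl⟩)) p hp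
    have hne : P0 ≠ P := fun e => hc (Set.mem_iUnion.2 ⟨l, Set.mem_iUnion₂.2 ⟨P0, hP0, by
      have h1 := hP ⟨j, by omega⟩ (Nat.lt_succ_self j)
      rw [Function.update_self] at h1
      exact e ▸ h1⟩⟩)
    have := dim_quot_lt (K := K) (lt_of_le_of_ne hle hne) hp hr
    omega

end Groth.L22.Moving
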