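import Groth.Agent.L22.Moving.FamilyPt
import Mathlib.RingTheory.TensorProduct.Quotient

/-!
The fibre at zero of a moving family is reduced.
-/

set_option autoImplicit false
set_option linter.style.haveILetI false
set_option backward.isDefEq.respectTransparency false

universe u

open AlgebraicGeometry CategoryTheory CategoryTheory.Limits MvPolynomial Groth.L16.ProjSpace TensorProduct

noncomputable section

namespace Groth.L22.Moving

/-- The pullback of a prime closed subscheme along a surjection of rings is reduced when the image ideal is radical. -/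
theorem isReduced_pullback_quot {A B : Type u} [CommRing A] [CommRing B] (φ : A →+* B) (P : Ideal A)
    (hφ : Function.Surjective φ) (h : (P.map φ).IsRadical) :
    IsReduced (pullback (Spec.map (CommRingCat.ofHom (Ideal.Quotient.mk P))) (Spec.map (CommRingCat.ofHom φ))) := by
  letI := φ.toAlgebra
  haveI : _root_.IsReduced (B ⧸ P.map φ) := (Ideal.isRadical_iff_quotient_reduced _).1 h
  haveI : _root_.IsReduced ((A ⧸ P) ⊗[A] B) :=
    isReduced_of_injective (Algebra.TensorProduct.quotIdealMapEquivQuotTensor B P).symm
      (Algebra.TensorProduct.quotIdealMapEquivQuotTensor B P).symm.injective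
  exact isReduced_of_isOpenImmersion (pullbackSpecIso A (A ⧸ P) B).hom

/-- Reduced closed subschemes with the same support are isomorphic. -/
theorem exists_iso_of_range_eq {A B R : Scheme.{u}} (a : A ⟶ R) (b : B ⟶ R) [IsClosedImmersion a]
    [IsClosedImmersion b] [IsReduced A] [IsReduced B] (h : Set.range a = Set.range b) :
    ∃ e : A ≅ B, e.hom ≫ b = a := by
  haveI : Surjective (pullback.fst a b) := ⟨fun x => by
    show x ∈ Set.range (pullback.fst a b)
    rw [Scheme.Pullback.range_fst, Set.mem_preimage, ← h]
    exact ⟨x, rfl⟩⟩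
  haveI : Surjective (pullback.snd a b) := ⟨fun x => by
    show x ∈ Set.range (pullback.snd a b)
    rw [Scheme.Pullback.range_snd, Set.mem_preimage, h]
    exact ⟨x, rfl⟩⟩
  haveI : IsIso (pullback.fst a b) := isIso_of_isClosedImmersion_of_surjective _
  haveI : IsIso (pullback.snd a b) := isIso_of_isClosedImmersion_of_surjective _
  refine ⟨(asIso (pullback.fst a b)).symm ≪≫ asIso (pullback.snd a b), ?_⟩
  simp only [Iso.trans_hom, Iso.symm_hom, asIso_inv, asIso_hom, Category.assoc, ← pullback.condition,
    IsIso.inv_hom_id_assoc]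

theorem range_specQuot {A : Type u} [CommRing A] (P : Ideal A) :
    Set.range (Spec.map (CommRingCat.ofHom (Ideal.Quotient.mk P))) = PrimeSpectrum.zeroLocus (P : Set A) :=
  (range_comap_of_surjective _ _ Ideal.Quotient.mk_surjective).trans (by rw [Ideal.mk_ker])

variable {K : Type u} [Field K] {N : ℕ} {F : Type u} [Field F] [Algebra K F]
variable {g : Fin (N + 1) → Fin (N + 1) → K} {y : Fin (N + 1) → F} {k0 : Fin (N + 1)} (hk0 : y k0 ≠ 0)

include hk0 in
theorem isReduced_zero_fibre {C' : Scheme.{u}} [IsReduced C']
    (ι' : C' ⟶ CohB1.ProjSpaceOver 1 (CohB1.ProjSpace N K)) [IsClosedImmersion ι']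
    (hr : Set.range ι' = closure {zeta (g := g) (y := y) k0}) :
    IsReduced (pullback ι' (P1.sect (CohB1.ProjSpace N K) 0)) := by
  let W := pullback ι' (P1.sect (CohB1.ProjSpace N K) 0)
  let q : W ⟶ CohB1.ProjSpace N K := pullback.snd ι' (P1.sect (CohB1.ProjSpace N K) 0)
  suffices h : ∀ k, IsReduced (pullback q (chart N K k)) by
    haveI : ∀ k, IsReduced (((chartCover N K).pullback₁ q).X k) := h
    exact IsReduced.of_openCover _ ((chartCover N K).pullback₁ q)
  intro k
  let χ0 := χ K k 0
  let a : pullback ι' χ0 ⟶ Spec (CommRingCat.of (Polynomial (CR K k))) := pullback.snd ι' χ0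
  let e0 := Spec.map (CommRingCat.ofHom (Polynomial.evalRingHom (0 : MvPolynomial (ChartVar N k) K)))
  suffices h2 : IsReduced (pullback a e0) by
    haveI := h2
    exact isReduced_of_isOpenImmersion ((pullbackLeftPullbackSndIso ι' (P1.sect (CohB1.ProjSpace N K) 0)
      (chart N K k)) ≪≫ pullback.congrHom rfl (sect_chart k 0) ≪≫
      (pullbackLeftPullbackSndIso ι' χ0 e0).symm).hom
  haveI : IsReduced (pullback ι' χ0) := isReduced_of_isOpenImmersion (pullback.fst ι' χ0)
  by_cases hw : wT g y k = 0
  · have he : IsEmpty ↥(pullback ι' χ0) := ⟨fun x => by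
      have h1 : ι' (pullback.fst ι' χ0 x) = χ0 (pullback.snd ι' χ0 x) := by
        rw [← Scheme.Hom.comp_apply, pullback.condition, Scheme.Hom.comp_apply]
      have h2 : χ0 (pullback.snd ι' χ0 x) ∈ Set.range ι' := ⟨_, h1⟩
      rw [hr, ← specializes_iff_mem_closure] at h2
      exact ((specializes_χ_iff hk0 k 0 _).1 h2).1 hw⟩
    haveI : IsEmpty ↥(pullback a e0) := ⟨fun x => he.elim (pullback.fst a e0 x)⟩
    exact ⟨fun U => by
      haveI : Subsingleton Γ(pullback a e0, U) :=
        CommRingCat.subsingleton_of_isTerminal ((pullback a e0).sheaf.isTerminalOfEqEmpty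
          (Subsingleton.elim (α := (pullback a e0).Opens) U ⊥))
      exact inferInstance⟩
  · let P := RingHom.ker (evC g (RatFunc.X : RatFunc F) (yT y) k 0).toRingHom
    haveI : P.IsPrime := RingHom.ker_isPrime _
    let b : Spec (CommRingCat.of (Polynomial (CR K k) ⧸ P)) ⟶ Spec (CommRingCat.of (Polynomial (CR K k))) :=
      Spec.map (CommRingCat.ofHom (Ideal.Quotient.mk P))
    haveI : IsClosedImmersion b := IsClosedImmersion.spec_of_surjective _ Ideal.Quotient.mk_surjective
    have hab : Set.range a = Set.range b := by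
      rw [show Set.range a = χ0 ⁻¹' Set.range ι' from Scheme.Pullback.range_snd ι' χ0, hr]
      rw [range_specQuot]
      ext p
      rw [Set.mem_preimage, ← specializes_iff_mem_closure]
      exact (specializes_χ_iff hk0 k 0 p).trans (and_iff_right hw)
    obtain ⟨e, he⟩ := exists_iso_of_range_eq a b hab
    haveI : IsReduced (pullback b e0) :=
      isReduced_pullback_quot _ P (fun r => ⟨Polynomial.C r, Polynomial.eval_C⟩) (map_ker_isRadical k hw)
    let m : pullback a e0 ⟶ pullback b e0 :=
      pullback.map a e0 b e0 e.hom (𝟙 _) (𝟙 _) (by rw [he, Category.comp_id]) (by simp)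
    exact isReduced_of_isOpenImmersion m

end Groth.L22.Moving
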